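import Groth.Agent.FlatA.FibreCrit2
import Groth.Agent.Ega4dB.FiberDepth
import Groth.Agent.Divis.StalkMod
import Groth.Agent.Ega43.DedekindOpen
import Groth.Prelude.Def_TorSh
import Mathlib.RingTheory.RegularLocalRing.Defs
import Mathlib.AlgebraicGeometry.Morphisms.Flat

/-!
# Freeness of the stalks of a flat family from freeness on the fibres
-/

set_option autoImplicit false
universe u v w

open CategoryTheory CategoryTheory.Limits AlgebraicGeometry TopologicalSpace TensorProduct IsLocalRing

namespace K139.FibFree

/-- Freeness along a flat family can be checked on the fibre. -/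
theorem free_of_isBaseChange {A B B' M M' : Type u} [CommRing A] [CommRing B] [CommRing B']
    [IsLocalRing A] [IsLocalRing B] [IsNoetherianRing B] [Algebra A B]
    [IsLocalHom (algebraMap A B)] [Algebra B B']
    (hsurj : Function.Surjective (algebraMap B B'))
    (hker : RingHom.ker (algebraMap B B') = (maximalIdeal A).map (algebraMap A B))
    [AddCommGroup M] [Module A M] [Module B M] [IsScalarTower A B M] [Module.Finite B M]
    [Module.Flat A M] [AddCommGroup M'] [Module B M'] [Module B' M'] [IsScalarTower B B' M']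
    {f : M →ₗ[B] M'} (hf : IsBaseChange B' f) (hM' : Module.Free B' M') : Module.Free B M := by
  rcases subsingleton_or_nontrivial M with h | h
  · exact Module.Free.of_subsingleton B M
  have hRS : (maximalIdeal A).map (algebraMap A B) ≤ Ideal.jacobson (⊥ : Ideal B) :=
    (IsLocalRing.map_maximalIdeal_le (algebraMap A B)).trans (IsLocalRing.maximalIdeal_le_jacobson _)
  refine (Groth.Agent.FlatA.FibreCrit2.free_and_flat_of_free_fibre (R := A) hRS ?_).1
  set I := (maximalIdeal A).map (algebraMap A B) with hI
  let e : (B ⧸ I) ≃ₐ[B] B' :=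
    (Ideal.quotientEquivAlgOfEq B hker.symm).trans
      (Ideal.quotientKerAlgEquivOfSurjective (f := Algebra.ofId B B') hsurj)
  letI : Module (B ⧸ I) M' := Module.compHom M' e.toRingEquiv.toRingHom
  have hsmul : ∀ (c : B ⧸ I) (x : M'), c • x = (e c) • x := fun c x => rfl
  haveI : IsScalarTower B (B ⧸ I) M' := by
    constructor
    intro r s x
    rw [hsmul, hsmul, map_smul, smul_assoc]
  have h1 : Module.Free (B ⧸ I) M' := by
    have b := Module.Free.chooseBasis B' M'
    exact Module.Free.of_basis (b.mapCoeffs e.symm.toRingEquiv (fun c x => by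
      rw [hsmul]
      congr 1
      exact e.apply_symm_apply c))
  let e1 : (B ⧸ I) ⊗[B] M ≃ₗ[B] M' :=
    (TensorProduct.congr e.toLinearEquiv (LinearEquiv.refl B M)).trans
      (hf.equiv.restrictScalars B)
  let e2 : (B ⧸ I) ⊗[B] M ≃ₗ[B ⧸ I] M' :=
    e1.extendScalarsOfSurjective Ideal.Quotient.mk_surjective
  exact Module.Free.of_equiv e2.symm

variable {X S : Scheme.{u}}

/-- Freeness of the stalk of a flat family from freeness of the stalk of the fibre. -/
theorem free_stalk_of_free_fiber (p : X ⟶ S) [IsLocallyNoetherian X] {E : X.Modules} (hE : Coh.IsCoh E)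
    (hfl : FlatMod.IsFlatOver p E) (s : S) (z : p.fiber s)
    (h : Module.Free ((p.fiber s).presheaf.stalk z)
      (((Scheme.Modules.pullback (p.fiberι s)).obj E).presheaf.stalk z)) :
    Module.Free (X.presheaf.stalk (p.fiberι s z)) (E.presheaf.stalk (p.fiberι s z)) := by
  let := Groth.Agent.Fdesc.PullbackStalk.stalkAlg (p.fiberι s) z
  let := FlatMod.moduleStalkOver (p.fiberι s) ((Scheme.Modules.pullback (p.fiberι s)).obj E) z
  have := Groth.Agent.Fdesc.PullbackStalk.isScalarTower (p.fiberι s)
    ((Scheme.Modules.pullback (p.fiberι s)).obj E) z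
  have hbc := Groth.Agent.Fdesc.PullbackStalk.isBaseChange_can (p.fiberι s) E z
  have hsurj : Function.Surjective
      (algebraMap (X.presheaf.stalk (p.fiberι s z)) ((p.fiber s).presheaf.stalk z)) :=
    Groth.Agent.CycB.FiberKer.stalkMap_fiberι_surjective p s z
  let _ : Algebra (S.presheaf.stalk (p (p.fiberι s z))) (X.presheaf.stalk (p.fiberι s z)) :=
    (p.stalkMap (p.fiberι s z)).hom.toAlgebra
  have hk : RingHom.ker (algebraMap (X.presheaf.stalk (p.fiberι s z)) ((p.fiber s).presheaf.stalk z)) =
      (maximalIdeal (S.presheaf.stalk (p (p.fiberι s z)))).map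
        (algebraMap (S.presheaf.stalk (p (p.fiberι s z))) (X.presheaf.stalk (p.fiberι s z))) :=
    Groth.Agent.CycB.FiberKer.ker_stalkMap_fiberι p s z
  have h1 : IsLocalHom (algebraMap (S.presheaf.stalk (p (p.fiberι s z)))
      (X.presheaf.stalk (p.fiberι s z))) :=
    inferInstanceAs (IsLocalHom (p.stalkMap (p.fiberι s z)).hom)
  let _ := FlatMod.moduleStalkOver p E (p.fiberι s z)
  have h2 : Module.Flat (S.presheaf.stalk (p (p.fiberι s z))) (E.presheaf.stalk (p.fiberι s z)) :=
    hfl (p.fiberι s z)
  have h3 : IsScalarTower (S.presheaf.stalk (p (p.fiberι s z))) (X.presheaf.stalk (p.fiberι s z))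
      (E.presheaf.stalk (p.fiberι s z)) := IsScalarTower.of_algebraMap_smul fun _ _ => rfl
  have h4 : Module.Finite (X.presheaf.stalk (p.fiberι s z)) (E.presheaf.stalk (p.fiberι s z)) :=
    Groth.Agent.Divis.StalkMod.finite_stalk hE _
  exact free_of_isBaseChange (A := S.presheaf.stalk (p (p.fiberι s z))) hsurj hk hbc h

/-- A finite torsion-free module over a regular local ring of dimension at most one is free. -/
theorem free_of_isTorsionFree_of_dim_le_one (R M : Type u) [CommRing R] [IsRegularLocalRing R]
    (hdim : ringKrullDim R ≤ 1) [AddCommGroup M] [Module R M] [Module.Finite R M]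
    [Module.IsTorsionFree R M] : Module.Free R M := by
  obtain ⟨_, _⟩ :=
    Groth.Agent.Ega43.DedekindOpen.isDomain_isPrincipalIdealRing_of_regular_dim_le_one R hdim
  infer_instance

end K139.FibFree
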