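import Groth.Agent.FlatMor.K258.Approx
import Groth.Agent.CAlg.K75.FlatModel

/-!
# Noetherian approximation of affine morphisms, with a flat module and prescribed functions
-/

set_option autoImplicit false
universe u

open AlgebraicGeometry CategoryTheory Limits TensorProduct

namespace K139.ApproxElt

theorem mem_range_appTop {X : Scheme.{u}} [IsAffine X] (B₀ : Type u) [CommRing B₀]
    (b : B₀ →+* Γ(X, ⊤)) (t : Γ(X, ⊤)) (ht : t ∈ Set.range b) :
    t ∈ Set.range ((X.isoSpec.hom ≫ Spec.map (CommRingCat.ofHom b)).appTop) := by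
  obtain ⟨b₀, rfl⟩ := ht
  refine ⟨(Scheme.ΓSpecIso (CommRingCat.of B₀)).inv b₀, ?_⟩
  have h1 : (Scheme.ΓSpecIso (CommRingCat.of B₀)).inv ≫
      (X.isoSpec.hom ≫ Spec.map (CommRingCat.ofHom b)).appTop = CommRingCat.ofHom b := by
    simp [Scheme.isoSpec]
  have h2 := ConcreteCategory.congr_hom h1 b₀
  exact h2

theorem approx_flat_module {X S : Scheme.{u}} (f : X ⟶ S) [IsAffine X] [IsAffine S]
    [LocallyOfFinitePresentation f] (F : X.Modules) (hq : Coh.IsQCoh F) (hF : CohB1.IsFP F)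
    (hfl : FlatMod.IsFlatOver f F) (T : Finset Γ(X, ⊤)) :
    ∃ (X₀ S₀ : Scheme.{u}) (f₀ : X₀ ⟶ S₀) (g : S ⟶ S₀) (g' : X ⟶ X₀), IsAffine X₀ ∧ IsAffine S₀ ∧
      IsPullback g' f f₀ g ∧ Algebra.FiniteType ℤ Γ(S₀, ⊤) ∧ LocallyOfFiniteType f₀ ∧
      (∀ t ∈ T, t ∈ Set.range g'.appTop) ∧
      ∃ F₀ : X₀.Modules, Coh.IsCoh F₀ ∧ FlatMod.IsFlatOver f₀ F₀ ∧
        Nonempty ((Scheme.Modules.pullback g').obj F₀ ≅ F) := by
  obtain ⟨N, _, _, hN, ⟨e⟩⟩ := K258.Approx.exists_tilde_of_affine F hq hF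
  have h1 := K258.Approx.appTop_finitePresentation f
  algebraize [f.appTop.hom]
  let : Module Γ(S, ⊤) N := Module.compHom N f.appTop.hom
  have : IsScalarTower Γ(S, ⊤) Γ(X, ⊤) N := IsScalarTower.of_algebraMap_smul fun _ _ ↦ rfl
  have hflN : Module.Flat Γ(S, ⊤) N := K258.Approx.flat_of_isFlatOver f F hfl N e rfl
  obtain ⟨A₀, B₀, M₀, _, _, _, _, _, _, _, _, _, _, g, hA, -, hpush, hB, hT, hM, hg, hflat⟩ :=
    K75.FlatModel.exists_model_flat_global (R := Γ(S, ⊤)) (S := Γ(X, ⊤)) (M := N) ∅ T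
  have : Algebra.FiniteType ℤ A₀ := A₀.fg_iff_finiteType.mp hA
  have hpo : IsPushout (CommRingCat.ofHom (algebraMap A₀ Γ(S, ⊤)))
      (CommRingCat.ofHom (algebraMap A₀ B₀)) f.appTop
      (CommRingCat.ofHom (algebraMap B₀ Γ(X, ⊤))) :=
    K258.Approx.isPushout_of_isPushout (A := Γ(S, ⊤)) (B := Γ(X, ⊤)) (A₀ := A₀) (B₀ := B₀)
  refine ⟨Spec (CommRingCat.of B₀), Spec (CommRingCat.of A₀),
    Spec.map (CommRingCat.ofHom (algebraMap A₀ B₀)), _, _, inferInstance, inferInstance,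
    K258.Approx.isPullback_of_isPushout f A₀ B₀ _ _ hpo, K258.Approx.finiteType_Γ A₀, ?_,
    fun t ht => mem_range_appTop B₀ _ t (hT t ht),
    tilde (R := CommRingCat.of B₀) (ModuleCat.of B₀ M₀), ?_, ?_,
    K258.Approx.exists_iso F N e B₀ M₀ g hg⟩
  · rw [HasRingHomProperty.Spec_iff (P := @LocallyOfFiniteType), CommRingCat.hom_ofHom,
      RingHom.finiteType_algebraMap]
    infer_instance
  · have : Module.Finite (CommRingCat.of B₀) (ModuleCat.of B₀ M₀) :=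
      inferInstanceAs (Module.Finite B₀ M₀)
    exact Groth.Agent.Ega1.ExtendAff2.isCoh_tilde _
  · exact (Groth.Agent.S2394.result A₀ B₀ M₀).mpr hflat

end K139.ApproxElt
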