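import Groth.Agent.S2164
import Groth.Agent.S2842
import Groth.Agent.Ega4dB.CITransport
import Groth.Agent.Ega4dB.CIAlg
import Groth.Agent.Ega4C.RegFlat
import Groth.Agent.CalgB.RegHom6

/-!
# Rings all of whose local rings are complete intersections, and flat maps
-/

set_option autoImplicit false
universe u

open IsLocalRing TensorProduct

namespace K139.CIFib

open Groth.Agent.Ega4dB.CITransport Groth.Agent.CalgB.RegHom6

/-- all local rings are complete intersections -/
def LocCI (R : Type u) [CommRing R] : Prop :=
  ∀ (p : Ideal R) [p.IsPrime], Pi1.IsCompleteIntersection (Localization.AtPrime p)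

theorem LocCI.of_ringEquiv {R S : Type u} [CommRing R] [CommRing S] (e : R ≃+* S) (h : LocCI R) :
    LocCI S := by
  intro q _
  have : (q.comap e).IsPrime := Ideal.comap_isPrime _ _
  exact isCompleteIntersection_of_ringEquiv
    (Localization.localRingEquiv (q.comap e) q e rfl) (h (q.comap e))

theorem LocCI.of_isRegularRing {R : Type u} [CommRing R] (h : IsRegularRing R) : LocCI R := by
  intro q _
  have : IsRegularLocalRing (Localization.AtPrime q) := h.isRegularLocalRing_localization q
  exact Groth.Agent.S2842.isCompleteIntersection_of_isRegularLocalRing _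

/-- Flat ascent at a prime, the fibre ring being given as `κ(p) ⊗ B`. -/
theorem isCI_of_flat_of_fiber {A B : Type u} [CommRing A] [CommRing B] [Algebra A B]
    [IsNoetherianRing A] [IsNoetherianRing B] [Module.Flat A B]
    (p : Ideal A) [p.IsPrime] (q : Ideal B) [q.IsPrime] (hq : q.comap (algebraMap A B) = p)
    (hA : Pi1.IsCompleteIntersection (Localization.AtPrime p)) (hF : LocCI (p.Fiber B)) :
    Pi1.IsCompleteIntersection (Localization.AtPrime q) := by
  have hlo : q.LiesOver p := ⟨hq.symm⟩
  let := Localization.AtPrime.algebraOfLiesOver p q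
  have : IsLocalHom (algebraMap (Localization.AtPrime p) (Localization.AtPrime q)) := by
    rw [RingHom.algebraMap_toAlgebra]
    exact Localization.isLocalHom_localRingHom p q (algebraMap A B) Ideal.LiesOver.over
  have : Module.Flat (Localization.AtPrime p) (Localization.AtPrime q) := inferInstance
  obtain ⟨q', hq', _, ⟨e⟩⟩ := Groth.Agent.Ega4C.RegFlat.exists_fiber_prime p q hq
  have h3 : (maximalIdeal (Localization.AtPrime p)).map
      (algebraMap (Localization.AtPrime p) (Localization.AtPrime q)) =
      p.map (algebraMap A (Localization.AtPrime q)) := by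
    rw [← Localization.AtPrime.map_eq_maximalIdeal, Ideal.map_map, ← IsScalarTower.algebraMap_eq]
  let e' := e.trans (Ideal.quotEquivOfEq h3.symm)
  have hloc : IsLocalRing (Localization.AtPrime q ⧸ (maximalIdeal (Localization.AtPrime p)).map
      (algebraMap (Localization.AtPrime p) (Localization.AtPrime q))) := e'.isLocalRing
  exact (Groth.Agent.S2164.result (A := Localization.AtPrime p) (B := Localization.AtPrime q)).mpr
    ⟨hA, isCompleteIntersection_of_ringEquiv e' (hF q')⟩

theorem LocCI.of_flat_of_fiber {A B : Type u} [CommRing A] [CommRing B] [Algebra A B]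
    [IsNoetherianRing A] [IsNoetherianRing B] [Module.Flat A B] (hA : LocCI A)
    (hF : ∀ (p : Ideal A) [p.IsPrime], LocCI (p.Fiber B)) : LocCI B := by
  intro q _
  exact isCI_of_flat_of_fiber (q.comap (algebraMap A B)) q rfl (hA _) (hF _)

/-- ascent along regular homomorphisms -/
theorem LocCI.of_isRegularHom {A B : Type u} [CommRing A] [CommRing B] [Algebra A B]
    [IsNoetherianRing A] [IsNoetherianRing B] (h : CAlg.IsRegularHom A B) (hA : LocCI A) :
    LocCI B := by
  have hfl := h.1
  have h2 := (isRegularHom_iff.mp h).2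
  refine LocCI.of_flat_of_fiber hA (fun p _ => LocCI.of_isRegularRing ?_)
  exact h2 p.ResidueField inferInstance

theorem LocCI.fib_comp {R S T : Type u} [CommRing R] [CommRing S] [CommRing T] [Algebra R S]
    [Algebra S T] [Algebra R T] [IsScalarTower R S T] [IsNoetherianRing S] [IsNoetherianRing T]
    (K : Type u) [Field K] [Algebra R K] (hK : Algebra.EssFiniteType R K)
    (h1 : LocCI (K ⊗[R] S)) (h2 : CAlg.IsRegularHom S T) : LocCI (K ⊗[R] T) := by
  have hA : LocCI (S ⊗[R] K) := h1.of_ringEquiv (Algebra.TensorProduct.comm R K S).toRingEquiv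
  let e1 : (S ⊗[R] K) ⊗[S] T ≃+* K ⊗[R] T :=
    ((Algebra.TensorProduct.comm S (S ⊗[R] K) T).toRingEquiv.trans
      (Algebra.TensorProduct.cancelBaseChange R S S T K).toRingEquiv).trans
      (Algebra.TensorProduct.comm R T K).toRingEquiv
  have hNS : IsNoetherianRing (S ⊗[R] K) := isNoetherianRing_of_essFiniteType S (S ⊗[R] K)
  have hNT : IsNoetherianRing ((S ⊗[R] K) ⊗[S] T) := by
    have := isNoetherianRing_tensor R K T
    exact isNoetherianRing_of_ringEquiv _ e1.symm
  have h3 : CAlg.IsRegularHom (S ⊗[R] K) ((S ⊗[R] K) ⊗[S] T) :=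
    isRegularHom_baseChange (S ⊗[R] K) h2
  exact (LocCI.of_isRegularHom h3 hA).of_ringEquiv e1

theorem LocCI.fieldTensor_aux (k K L A : Type u) [Field k] [Field K] [Field L] [Algebra k K]
    [Algebra k L] [CommRing A] [Algebra k A] [Algebra A K] [IsScalarTower k A K] (M : Submonoid A)
    [hloc : IsLocalization M K] [hft : Algebra.FiniteType k A] : LocCI (K ⊗[k] L) := by
  let _ : Algebra (A ⊗[k] L) (K ⊗[k] L) :=
    (Algebra.TensorProduct.map (IsScalarTower.toAlgHom k A K) (AlgHom.id k L)).toAlgebra
  have : IsScalarTower A (A ⊗[k] L) (K ⊗[k] L) :=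
    .of_algebraMap_eq <| by
      intro x
      exact (Algebra.TensorProduct.map_tmul (IsScalarTower.toAlgHom k A K) (AlgHom.id k L) x 1).symm
  have hloc2 : IsLocalization (Algebra.algebraMapSubmonoid (A ⊗[k] L) M) (K ⊗[k] L) :=
    IsLocalization.tensorProduct_tensorProduct k L M K
      (by ext; simp [RingHom.algebraMap_toAlgebra])
  intro Q _
  let Q' : Ideal (A ⊗[k] L) := Q.comap (algebraMap (A ⊗[k] L) (K ⊗[k] L))
  have hQ' : Q'.IsPrime := Ideal.comap_isPrime _ _
  let P : Ideal A := Q'.comap (algebraMap A (A ⊗[k] L))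
  have hP : P.IsPrime := Ideal.comap_isPrime _ _
  have hPK : P = (⊥ : Ideal K).comap (algebraMap A K) := by
    have h1 : P = (Q.comap (algebraMap K (K ⊗[k] L))).comap (algebraMap A K) := by
      change (Q.comap _).comap _ = _
      rw [Ideal.comap_comap, Ideal.comap_comap, ← IsScalarTower.algebraMap_eq,
        ← IsScalarTower.algebraMap_eq]
    have h2 : (Q.comap (algebraMap K (K ⊗[k] L))) = ⊥ := by
      have : (Q.comap (algebraMap K (K ⊗[k] L))).IsPrime := Ideal.comap_isPrime _ _
      exact (Ideal.eq_bot_or_top _).resolve_right this.ne_top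
    rw [h1, h2]
  have hlocK : IsLocalization P.primeCompl K := by
    refine IsLocalization.of_le M P.primeCompl ?_ ?_
    · intro x hx hxP
      rw [hPK] at hxP
      have h1 := IsLocalization.map_units K (⟨x, hx⟩ : M)
      rw [SetLike.mem_coe, Ideal.mem_comap, Ideal.mem_bot] at hxP
      rw [hxP] at h1
      exact not_isUnit_zero h1
    · intro x hx
      refine isUnit_iff_ne_zero.mpr (fun h0 => hx ?_)
      rw [hPK]
      exact h0
  have hCIP : Pi1.IsCompleteIntersection (Localization.AtPrime P) :=
    isCompleteIntersection_of_ringEquiv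
      (IsLocalization.algEquiv P.primeCompl K (Localization.AtPrime P)).toRingEquiv
      (Groth.Agent.S2842.isCompleteIntersection_of_isRegularLocalRing K)
  have hCIQ' : Pi1.IsCompleteIntersection (Localization.AtPrime Q') :=
    (Groth.Agent.Ega4dB.CIAlg.isCompleteIntersection_tensor_iff Q' P rfl).mp hCIP
  have : IsScalarTower (A ⊗[k] L) (K ⊗[k] L) (Localization.AtPrime Q) := inferInstance
  have hlocQ : IsLocalization.AtPrime (Localization.AtPrime Q) Q' :=
    IsLocalization.isLocalization_isLocalization_atPrime_isLocalization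
      (Algebra.algebraMapSubmonoid (A ⊗[k] L) M) (Localization.AtPrime Q) Q
  exact isCompleteIntersection_of_ringEquiv
    (IsLocalization.algEquiv Q'.primeCompl (Localization.AtPrime Q') (Localization.AtPrime Q)).toRingEquiv
    hCIQ'

/-- For `K/k` finitely generated as a field extension and `L/k` any extension, `K ⊗ L` has complete
intersection local rings. -/
theorem LocCI.fieldTensor (k K L : Type u) [Field k] [Field K] [Field L] [Algebra k K] [Algebra k L]
    [hK : Algebra.EssFiniteType k K] : LocCI (K ⊗[k] L) :=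
  -- a finite type `k`-subalgebra of `K` with fraction field `K`
  LocCI.fieldTensor_aux k K L (Algebra.EssFiniteType.subalgebra k K)
    (Algebra.EssFiniteType.submonoid k K)

theorem main_8950 (k K R : Type u) [Field k] [Field K] [Algebra k K] [Algebra.EssFiniteType k K]
    [CommRing R] [Algebra k R] [IsNoetherianRing R] (hR : LocCI R) :
    IsNoetherianRing (K ⊗[k] R) ∧ LocCI (K ⊗[k] R) := by
  have hN : IsNoetherianRing (K ⊗[k] R) := isNoetherianRing_tensor k K R
  refine ⟨hN, ?_⟩
  have hN' : IsNoetherianRing (R ⊗[k] K) :=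
    isNoetherianRing_of_ringEquiv _ (Algebra.TensorProduct.comm k K R).toRingEquiv
  have h1 : LocCI (R ⊗[k] K) := by
    refine LocCI.of_flat_of_fiber hR (fun p _ => ?_)
    have e : p.ResidueField ⊗[R] (R ⊗[k] K) ≃+* p.ResidueField ⊗[k] K :=
      (Algebra.TensorProduct.cancelBaseChange k R p.ResidueField p.ResidueField K).toRingEquiv
    have h2 : LocCI (p.ResidueField ⊗[k] K) :=
      (LocCI.fieldTensor k K p.ResidueField).of_ringEquiv
        (Algebra.TensorProduct.comm k K p.ResidueField).toRingEquiv
    exact h2.of_ringEquiv e.symm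
  exact h1.of_ringEquiv (Algebra.TensorProduct.comm k R K).toRingEquiv

end K139.CIFib
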