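import Groth.Agent.Lefpen.H718.Grade

/-!
# Affine cones of global complete intersections

`S = k[T_0..T_N]`, `A = S/(g_1..g_d)`, `d ≤ ht (g_1..g_d)`.
* `depth_eq_height`: all local rings of `A` are Cohen-Macaulay.
* `height_irr_add`: the local ring at the vertex has dimension `N + 1 - d`.
* `mem_of_forall_X_pow_mul_mem`: `(g)` is saturated if `d ≤ N`.
* `normal`: if `A` is normal off the vertex and `d < N` then `A` is a normal domain.
-/

set_option autoImplicit false
universe u

open MvPolynomial IsLocalRing RingTheory.Sequence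

namespace K139.ConeNormal

open Groth.Agent.Lefpen.H718.Reg Groth.Agent.Lefpen.H718.ConeCM Groth.Agent.Lefpen.H718.Grade

theorem notMem_associatedPrimes_of_one_le_depth {R : Type u} [CommRing R] [IsNoetherianRing R]
    (p : Ideal R) [p.IsPrime]
    (h : 1 ≤ LocCoh.depth (Localization.AtPrime p) (Localization.AtPrime p)) :
    p ∉ associatedPrimes R R := by
  rw [Groth.Agent.CalgA.DepthSmall.one_le_depth_iff_notMem_associatedPrimes] at h
  intro hass
  apply h
  refine Module.associatedPrimes.mem_associatedPrimes_of_comap_mem_associatedPrimes_of_isLocalizedModule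
    p.primeCompl (Algebra.linearMap R (Localization.AtPrime p)) _ ?_
  have h3 : Ideal.comap (algebraMap R (Localization.AtPrime p))
      (maximalIdeal (Localization.AtPrime p)) = p := Localization.AtPrime.under_maximalIdeal
  rw [h3]
  exact hass

variable {k : Type u} [Field k] {N d : ℕ} (g : Fin d → MvPolynomial (Fin (N + 1)) k)

section

variable (hht : (d : ℕ∞) ≤ (Ideal.span (Set.range g)).height) (q : Ideal (A g)) [hq : q.IsPrime]

include hht

theorem le_height_eqs' : ((eqs g q).length : ℕ∞) ≤ (Ideal.ofList (eqs g q)).height := by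
  rw [ofList_eqs]
  have h2 : (eqs g q).length = d := by simp [eqs]
  rw [h2]
  exact hht.trans (Groth.Agent.Ega4C.HullCM.height_le_height_map
    (q.comap (Ideal.Quotient.mk (Ideal.span (Set.range g)))).primeCompl _)

theorem depth_eq_ringKrullDim' :
    ((LocCoh.depth (Localization.AtPrime q) (Localization.AtPrime q) : ℕ∞) : WithBot ℕ∞) =
      ringKrullDim (Localization.AtPrime q) := by
  obtain ⟨e⟩ := nonempty_equiv g q
  have hnt := e.injective.nontrivial
  have hloc : IsLocalRing (Localization.AtPrime (q.comap (Ideal.Quotient.mk (Ideal.span (Set.range g)))) ⧸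
      Ideal.ofList (eqs g q)) := IsLocalRing.of_surjective' (Ideal.Quotient.mk _) Ideal.Quotient.mk_surjective
  have h1 : ringKrullDim (Localization.AtPrime q) = ringKrullDim (Localization.AtPrime
      (q.comap (Ideal.Quotient.mk (Ideal.span (Set.range g)))) ⧸ Ideal.ofList (eqs g q)) :=
    ringKrullDim_eq_of_ringEquiv e
  have h2 : LocCoh.depth (Localization.AtPrime q) (Localization.AtPrime q) = LocCoh.depth (Localization.AtPrime
      (q.comap (Ideal.Quotient.mk (Ideal.span (Set.range g)))) ⧸ Ideal.ofList (eqs g q)) (Localization.AtPrime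
      (q.comap (Ideal.Quotient.mk (Ideal.span (Set.range g)))) ⧸ Ideal.ofList (eqs g q)) :=
    Groth.Agent.CalgA.DepthSmall.depth_ringEquiv e
  rw [h1, h2]
  exact depth_quot _ (eqs_mem g q) (le_height_eqs' g hht q)

theorem depth_eq_height' :
    LocCoh.depth (Localization.AtPrime q) (Localization.AtPrime q) = q.height := by
  have h := (depth_eq_ringKrullDim' g hht q).trans
    (IsLocalization.AtPrime.ringKrullDim_eq_height q (Localization.AtPrime q))
  exact_mod_cast h

theorem ringKrullDim_add' :
    ringKrullDim (Localization.AtPrime q) + d = ringKrullDim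
      (Localization.AtPrime (q.comap (Ideal.Quotient.mk (Ideal.span (Set.range g))))) := by
  obtain ⟨e⟩ := nonempty_equiv g q
  have h := ringKrullDim_add_length_eq_ringKrullDim_of_isRegular _
    (isRegular_of_height _ (eqs_mem g q) (le_height_eqs' g hht q))
  have h2 : (eqs g q).length = d := by simp [eqs]
  rw [h2] at h
  have h1 : ringKrullDim (Localization.AtPrime q) = ringKrullDim (Localization.AtPrime
      (q.comap (Ideal.Quotient.mk (Ideal.span (Set.range g)))) ⧸ Ideal.ofList (eqs g q)) :=
    ringKrullDim_eq_of_ringEquiv e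
  rw [h1, h]

omit hq in
theorem hasSk_two' : LocCoh.HasSk 2 (A g) (A g) := by
  rw [Groth.Agent.CalgA.SerreLocal.hasSk_self_iff]
  intro p hp
  rw [depth_eq_height' g hht p]
  exact min_le_right _ _

end

variable (hg : ∀ i, constantCoeff (g i) = 0) (hht : (d : ℕ∞) ≤ (Ideal.span (Set.range g)).height)

include hg hht

theorem height_irr_add : (irr g).height + d = (N + 1 : ℕ) := by
  have hm := isMaximal_irr g hg
  have hp : (irr g).IsPrime := hm.isPrime
  have h1 := ringKrullDim_add' g hht (irr g)
  have h2 : ringKrullDim (Localization.AtPrime (irr g)) = (irr g).height :=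
    IsLocalization.AtPrime.ringKrullDim_eq_height (irr g) (Localization.AtPrime (irr g))
  have h3 : ringKrullDim (Localization.AtPrime ((irr g).comap (Ideal.Quotient.mk (Ideal.span (Set.range g))))) =
      ((irr g).comap (Ideal.Quotient.mk (Ideal.span (Set.range g)))).height :=
    IsLocalization.AtPrime.ringKrullDim_eq_height _
      (Localization.AtPrime ((irr g).comap (Ideal.Quotient.mk (Ideal.span (Set.range g)))))
  rw [h2, h3, comap_irr g hg, height_span_X] at h1
  exact_mod_cast h1

/-- The ideal of a complete intersection of dimension `≥ 0` is saturated. -/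
theorem mem_of_forall_X_pow_mul_mem (hd : d ≤ N) (f : MvPolynomial (Fin (N + 1)) k)
    (hf : ∀ i : Fin (N + 1), ∃ m : ℕ, X i ^ m * f ∈ Ideal.span (Set.range g)) :
    f ∈ Ideal.span (Set.range g) := by
  by_contra hne
  have hm := isMaximal_irr g hg
  have hp : (irr g).IsPrime := hm.isPrime
  have hne' : (Ideal.Quotient.mk (Ideal.span (Set.range g)) f : A g) ≠ 0 := fun h =>
    hne (Ideal.Quotient.eq_zero_iff_mem.mp h)
  obtain ⟨q, hq, hle⟩ := exists_le_isAssociatedPrime_of_isNoetherianRing (A g)
    (Ideal.Quotient.mk (Ideal.span (Set.range g)) f : A g) hne'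
  have hqp : q.IsPrime := hq.isPrime
  have hX : ∀ j, Ideal.Quotient.mk (Ideal.span (Set.range g)) (X j) ∈ q := by
    intro j
    obtain ⟨m, hm⟩ := hf j
    refine hqp.mem_of_pow_mem m (hle ?_)
    rw [Submodule.mem_colon_singleton, Submodule.mem_bot, smul_eq_mul, ← map_pow, ← map_mul]
    exact Ideal.Quotient.eq_zero_iff_mem.mpr hm
  have hqi : q = irr g := eq_irr g q hm hX
  subst hqi
  have h1 := height_irr_add g hg hht
  have h2 : (1 : ℕ∞) ≤ (irr g).height := by
    by_contra h0
    rw [not_le, Order.lt_one_iff] at h0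
    rw [h0, zero_add] at h1
    have : d = N + 1 := by exact_mod_cast h1
    omega
  rw [← depth_eq_height' g hht (irr g)] at h2
  exact notMem_associatedPrimes_of_one_le_depth (irr g) h2 hq

/-- A complete intersection cone of dimension `≥ 2` which is normal off the vertex is a normal domain. -/
theorem normal {a : Fin d → ℕ} (hh : ∀ i, (g i).IsHomogeneous (a i)) (hd : d < N)
    (hnorm : ∀ (Q : Ideal (A g)) [Q.IsPrime], (∃ i, Ideal.Quotient.mk (Ideal.span (Set.range g)) (X i) ∉ Q) →
      IsDomain (Localization.AtPrime Q) ∧ IsIntegrallyClosed (Localization.AtPrime Q)) :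
    IsDomain (A g) ∧ IsIntegrallyClosed (A g) := by
  have hm := isMaximal_irr g hg
  have hp : (irr g).IsPrime := hm.isPrime
  have h1 := height_irr_add g hg hht
  have hR : LocCoh.HasRk 1 (A g) := by
    intro p hp hle
    by_cases h : ∃ i, Ideal.Quotient.mk (Ideal.span (Set.range g)) (X i) ∉ p
    · obtain ⟨_, _⟩ := hnorm p h
      refine Groth.Agent.CalgA.SerreLocal.isRegularLocalRing_of_isIntegrallyClosed ?_
      rw [IsLocalization.AtPrime.ringKrullDim_eq_height p]
      exact_mod_cast hle
    · exfalso
      push Not at h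
      rw [eq_irr g p hm h] at hle
      have h2 : ((N + 1 : ℕ) : ℕ∞) ≤ ((1 + d : ℕ) : ℕ∞) := by
        rw [← h1]
        push_cast
        gcongr
        exact_mod_cast hle
      have : N + 1 ≤ 1 + d := by exact_mod_cast h2
      omega
  have hS := hasSk_two' g hht
  have hN : ∀ (p : Ideal (A g)) [p.IsPrime], IsDomain (Localization.AtPrime p) ∧
      IsIntegrallyClosed (Localization.AtPrime p) := fun p _ =>
    (Groth.Agent.S0601.result (A g)).2 ⟨hR, hS⟩ p
  have hdom : IsDomain (A g) := by
    have := (hN (irr g)).1
    exact (algebraMap_injective g hh).isDomain (algebraMap (A g) (Localization.AtPrime (irr g)))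
  exact ⟨hdom, IsIntegrallyClosed.of_localization_maximal fun p _ hp => (hN p).2⟩

end K139.ConeNormal
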