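import Groth.Agent.CInt.K139.FibDimBC
import Groth.Agent.S2871
import Groth.Agent.Ega4dB.FibDepthReg
import Groth.Agent.CycB.StalkExact

/-!
# The fibrewise depth along a closed subset under base change
-/

set_option autoImplicit false
universe u
open CategoryTheory CategoryTheory.Limits AlgebraicGeometry TopologicalSpace IsLocalRing
open Groth.Agent

namespace K139.DepthAlong

open Groth.Agent.Ega4dB.FiberStalk Groth.Agent.Ega4dB.CIFibre K139.FibDim

variable {X X' S S' P : Scheme.{u}}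

theorem depthAlong_of_iso {F G : X.Modules} (e : F ≅ G) (Y : Set X) (y : X) :
    CInt.depthAlong F Y y = CInt.depthAlong G Y y := by
  unfold CInt.depthAlong
  exact iInf_congr fun z =>
    Groth.Agent.Ega4B.DepthBasic.depth_congr (CycB.StalkExact.stalkLinEquiv e z.1)

theorem fiberDepthAlong_le (f : X ⟶ S) (F : X.Modules) (Y : Set X) (y z : X) (h1 : z ∈ Y)
    (h2 : z ⤳ y) (h3 : f z = f y) : CInt.fiberDepthAlong f F Y y ≤ CInt.fiberDepth f F z :=
  iInf_le (fun z : {z : X // z ∈ Y ∧ z ⤳ y ∧ f.base z = f.base y} => CInt.fiberDepth f F z.1)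
    ⟨z, h1, h2, h3⟩

theorem depthAlong_le (F : X.Modules) (Y : Set X) (y z : X) (h1 : z ∈ Y)
    (h2 : z ⤳ y) : CInt.depthAlong F Y y ≤ LocCoh.depth (X.presheaf.stalk z) (F.presheaf.stalk z) :=
  iInf_le (fun z : {z : X // z ∈ Y ∧ z ⤳ y} =>
    LocCoh.depth (X.presheaf.stalk z.1) (F.presheaf.stalk z.1)) ⟨z, h1, h2⟩

theorem fiberDepthAlong_fiberι (f : X ⟶ S) (F : X.Modules) (Y : Set X) (s : S) (w : f.fiber s) :
    CInt.fiberDepthAlong f F Y (f.fiberι s w) =
      CInt.depthAlong ((Scheme.Modules.pullback (f.fiberι s)).obj F)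
        ((fun x => f.fiberι s x) ⁻¹' Y) w := by
  apply le_antisymm
  · refine le_iInf ?_
    rintro ⟨z, hzY, hz⟩
    have h1 := fiberDepthAlong_le f F Y (f.fiberι s w) (f.fiberι s z) hzY
      (hz.map (f.fiberι s).continuous)
      ((CycB.FiberKer.apply_fiberι f s z).trans (CycB.FiberKer.apply_fiberι f s w).symm)
    rw [← Groth.Agent.Ega4dB.FibDepthReg.depth_fiber_eq f F s z] at h1
    exact h1
  · refine le_iInf ?_
    rintro ⟨z, hzY, hz, hfz⟩
    obtain ⟨z', rfl⟩ := CycB.FiberKer.exists_fiberι_eq f s z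
      (hfz.trans (CycB.FiberKer.apply_fiberι f s w))
    have h1 := depthAlong_le ((Scheme.Modules.pullback (f.fiberι s)).obj F)
        ((fun x => f.fiberι s x) ⁻¹' Y) w z' hzY
        ((f.fiberι s).isEmbedding.isInducing.specializes_iff.mp hz)
    rw [Groth.Agent.Ega4dB.FibDepthReg.depth_fiber_eq f F s z'] at h1
    exact h1

theorem fiberDepthAlong_of_iso (f : X ⟶ S) {F G : X.Modules} (e : F ≅ G) (Y : Set X) (y : X) :
    CInt.fiberDepthAlong f F Y y = CInt.fiberDepthAlong f G Y y := by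
  obtain ⟨s, hs⟩ : ∃ s, f y = s := ⟨_, rfl⟩
  obtain ⟨w, rfl⟩ := CycB.FiberKer.exists_fiberι_eq f s y hs
  rw [fiberDepthAlong_fiberι, fiberDepthAlong_fiberι]
  exact depthAlong_of_iso ((Scheme.Modules.pullback _).mapIso e) _ _

theorem isLocallyNoetherian_fiber (f : X ⟶ S) [LocallyOfFiniteType f] (s : S) :
    IsLocallyNoetherian (f.fiber s) := by
  have hft : LocallyOfFiniteType (f.fiberToSpecResidueField s) :=
    (inferInstance : LocallyOfFiniteType (pullback.snd f (S.fromSpecResidueField s)))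
  exact LocallyOfFiniteType.isLocallyNoetherian (f.fiberToSpecResidueField s)

theorem fiberDepthAlong_of_flat {f' : X' ⟶ S'} {f : X ⟶ S} {g' : X' ⟶ X} (s' : S') (s : S)
    (φ : f'.fiber s' ⟶ f.fiber s) [Flat φ] (hφ : φ ≫ f.fiberι s = f'.fiberι s' ≫ g')
    [LocallyOfFiniteType f] [LocallyOfFiniteType f'] (F : X.Modules) (hF : Coh.IsCoh F)
    (Y : Set X) (hY : IsClosed Y) (w : f'.fiber s') (hw : f.fiberι s (φ w) ∈ Y) :
    CInt.fiberDepthAlong f' ((Scheme.Modules.pullback g').obj F) (g' ⁻¹' Y) (f'.fiberι s' w) =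
      CInt.fiberDepthAlong f F Y (f.fiberι s (φ w)) := by
  have h1 := isLocallyNoetherian_fiber f s
  have h2 := isLocallyNoetherian_fiber f' s'
  rw [fiberDepthAlong_fiberι, fiberDepthAlong_fiberι]
  have hG : Coh.IsCoh ((Scheme.Modules.pullback (f.fiberι s)).obj F) :=
    FormalA.PullbackQC.isCoh_pullback (f.fiberι s) F hF
  have e : (Scheme.Modules.pullback (f'.fiberι s')).obj ((Scheme.Modules.pullback g').obj F) ≅
      (Scheme.Modules.pullback φ).obj ((Scheme.Modules.pullback (f.fiberι s)).obj F) :=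
    (Scheme.Modules.pullbackComp _ _).app _ ≪≫
      (Scheme.Modules.pullbackCongr hφ.symm).app _ ≪≫
      ((Scheme.Modules.pullbackComp _ _).app _).symm
  rw [depthAlong_of_iso e]
  have h3 := Groth.Agent.S2871.result φ _ hG
    ⟨(fun x => f.fiberι s x) ⁻¹' Y, hY.preimage (f.fiberι s).continuous⟩ w hw
  refine Eq.trans ?_ h3
  congr 1
  ext x
  change g' (f'.fiberι s' x) ∈ Y ↔ f.fiberι s (φ x) ∈ Y
  rw [← Scheme.Hom.comp_apply, ← Scheme.Hom.comp_apply, hφ]

theorem fiberDepthAlong_baseChange {fst : P ⟶ X} {snd : P ⟶ S'} {f : X ⟶ S} {g : S' ⟶ S}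
    (h : IsPullback fst snd f g) [LocallyOfFiniteType f] (F : X.Modules) (hF : Coh.IsCoh F)
    (Y : Set X) (hY : IsClosed Y) (p : P) (hp : fst p ∈ Y) :
    CInt.fiberDepthAlong snd ((Scheme.Modules.pullback fst).obj F) (fst ⁻¹' Y) p =
      CInt.fiberDepthAlong f F Y (fst p) := by
  have hs : LocallyOfFiniteType snd := MorphismProperty.of_isPullback h inferInstance
  have h1 : f.fiberι (g (snd p)) (fiberBaseChange h (snd p) (snd.asFiber p)) = fst p := by
    rw [fiberι_fiberBaseChange, snd.fiberι_asFiber]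
  have := flat_fiberBaseChange h (snd p)
  have h2 := fiberDepthAlong_of_flat (snd p) (g (snd p)) (fiberBaseChange h (snd p))
    (fiberBaseChange_fiberι h (snd p)) F hF Y hY (snd.asFiber p) (by rwa [h1])
  rw [snd.fiberι_asFiber] at h2
  rw [h2, h1]

theorem isPullback_fiberMap (j : X' ⟶ X) (f : X ⟶ S) (s : S) :
    IsPullback (CInt.fiberMap j f s) ((j ≫ f).fiberι s) (f.fiberι s) j := by
  have h1 : IsPullback ((j ≫ f).fiberι s) ((j ≫ f).fiberToSpecResidueField s) (j ≫ f)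
      (S.fromSpecResidueField s) := IsPullback.of_hasPullback _ _
  have h2 : IsPullback (f.fiberι s) (f.fiberToSpecResidueField s) f (S.fromSpecResidueField s) :=
    IsPullback.of_hasPullback _ _
  have e1 : CInt.fiberMap j f s ≫ f.fiberToSpecResidueField s =
      (j ≫ f).fiberToSpecResidueField s :=
    (pullback.lift_snd _ _ _).trans (Category.comp_id _)
  have e2 : CInt.fiberMap j f s ≫ f.fiberι s = (j ≫ f).fiberι s ≫ j :=
    pullback.lift_fst _ _ _
  rw [← e1] at h1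
  exact (IsPullback.of_bot h1 e2.symm h2).flip

theorem fiberDepthAlong_comp (j : X' ⟶ X) (f : X ⟶ S) [Flat j] [LocallyOfFiniteType (j ≫ f)]
    [LocallyOfFiniteType f] (F : X.Modules) (hF : Coh.IsCoh F) (Y : Set X) (hY : IsClosed Y)
    (p : X') (hp : j p ∈ Y) :
    CInt.fiberDepthAlong (j ≫ f) ((Scheme.Modules.pullback j).obj F) (j ⁻¹' Y) p =
      CInt.fiberDepthAlong f F Y (j p) := by
  obtain ⟨s, hs⟩ : ∃ s, (j ≫ f) p = s := ⟨_, rfl⟩
  obtain ⟨w, rfl⟩ := CycB.FiberKer.exists_fiberι_eq (j ≫ f) s p hs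
  have h0 := (isPullback_fiberMap j f s).w
  have : Flat (CInt.fiberMap j f s) := MorphismProperty.of_isPullback
    (isPullback_fiberMap j f s).flip inferInstance
  have h1 : f.fiberι s (CInt.fiberMap j f s w) = j ((j ≫ f).fiberι s w) := by
    rw [← Scheme.Hom.comp_apply, h0, Scheme.Hom.comp_apply]
  have h2 := fiberDepthAlong_of_flat s s (CInt.fiberMap j f s) h0 F hF Y hY w (by rwa [h1])
  rw [h1] at h2
  exact h2

/-- localization on source and target. -/
theorem fiberDepthAlong_resLE (f : X ⟶ S) [LocallyOfFiniteType f] (F : X.Modules)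
    (hF : Coh.IsCoh F) (Y : Set X) (hY : IsClosed Y) (V : S.Opens) (W : X.Opens)
    (e : W ≤ f ⁻¹ᵁ V) (p : (W : Scheme.{u})) (hp : W.ι p ∈ Y) :
    CInt.fiberDepthAlong (f.resLE V W e) ((Scheme.Modules.pullback W.ι).obj F) (W.ι ⁻¹' Y) p =
      CInt.fiberDepthAlong f F Y (W.ι p) := by
  have h0 : IsPullback (f ⁻¹ᵁ V).ι (f ∣_ V) f V.ι := (isPullback_morphismRestrict f V).flip
  have hl : LocallyOfFiniteType (f ∣_ V) := MorphismProperty.of_isPullback h0 inferInstance
  have h1 : (X.homOfLE e) ≫ (f ⁻¹ᵁ V).ι = W.ι := X.homOfLE_ι e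
  have h4 : (f ⁻¹ᵁ V).ι (X.homOfLE e p) = W.ι p := by
    rw [← Scheme.Hom.comp_apply, h1]
  have h5 : W.ι ⁻¹' Y = (X.homOfLE e) ⁻¹' ((f ⁻¹ᵁ V).ι ⁻¹' Y) := by
    ext x
    change W.ι x ∈ Y ↔ (f ⁻¹ᵁ V).ι (X.homOfLE e x) ∈ Y
    rw [← Scheme.Hom.comp_apply, h1]
  have h6 : (Scheme.Modules.pullback W.ι).obj F ≅ (Scheme.Modules.pullback (X.homOfLE e)).obj
      ((Scheme.Modules.pullback (f ⁻¹ᵁ V).ι).obj F) :=
    (Scheme.Modules.pullbackCongr h1.symm).app _ ≪≫
      ((Scheme.Modules.pullbackComp _ _).app _).symm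
  rw [fiberDepthAlong_of_iso _ h6, h5]
  have h7 := fiberDepthAlong_comp (X.homOfLE e) (f ∣_ V)
    ((Scheme.Modules.pullback (f ⁻¹ᵁ V).ι).obj F) (FormalA.PullbackQC.isCoh_pullback _ F hF)
    ((f ⁻¹ᵁ V).ι ⁻¹' Y) (hY.preimage (f ⁻¹ᵁ V).ι.continuous) p (by
      change (f ⁻¹ᵁ V).ι _ ∈ Y
      rwa [h4])
  refine h7.trans ?_
  rw [fiberDepthAlong_baseChange h0 F hF Y hY _ (by rwa [h4]), h4]

end K139.DepthAlong
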