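import Groth.Agent.CInt.K139.DepthAlong
import Groth.Agent.CInt.K139.ApproxElt
import Groth.Agent.SDiv.K476.HomSh3
import Groth.Agent.SDiv.K474.FittBlow2
import Groth.Agent.Ega3B.FlatRestrict
import Groth.Agent.S2872
import Groth.Agent.Sga3C.DimTop
import Groth.Prelude.Def_Flat
import Groth.Agent.Ega4A.Depth
import Groth.Agent.S3389
import Mathlib.Topology.Constructible

/-!
# Constructibility of the sets where the fibrewise depth along a closed set is large
-/

set_option autoImplicit false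
universe u
open CategoryTheory CategoryTheory.Limits AlgebraicGeometry TopologicalSpace Topology IsLocalRing
open Groth.Agent

namespace K139.DepthConstr

open K139.DepthAlong

theorem isCompact_of_isConstructible {X : Type*} [TopologicalSpace X] [CompactSpace X] {s : Set X}
    (hs : IsConstructible s) : IsCompact s := by
  induction s, hs using BooleanSubalgebra.closure_sdiff_sup_induction with
  | isSublattice =>
    exact ⟨fun s hs t ht ↦ ⟨hs.1.union ht.1, hs.2.union ht.2⟩,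
      fun s hs t ht ↦ ⟨hs.1.inter ht.1, hs.2.inter_isOpen ht.2 ht.1⟩⟩
  | bot_mem => exact ⟨isOpen_empty, .empty⟩
  | top_mem => exact ⟨isOpen_univ, .univ⟩
  | sdiff U hU V hV =>
    exact hU.2.isCompact.diff hV.1
  | sup s _ t _ hs' ht' => exact hs'.union ht'

variable {X S : Scheme.{u}}

/-- The affine case: the sets are cut out by quasi-compact opens. -/
theorem affine (f : X ⟶ S) [IsAffine X] [IsAffine S] [LocallyOfFinitePresentation f]
    (Y : Set X) (hY : IsClosed Y) (hYc : IsCompact Yᶜ) (F : X.Modules) (hqc : Coh.IsQCoh F)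
    (hfp : CohB1.IsFP F) (hfl : FlatMod.IsFlatOver f F) :
    ∃ U : ℕ → Set X, (∀ n, IsOpen (U n) ∧ IsCompact (U n)) ∧
      ∀ n x, x ∈ Y → (x ∈ U n ↔ (n : ℕ∞) ≤ CInt.fiberDepthAlong f F Y x) := by
  obtain ⟨s, hs, hYs⟩ := isCompact_and_isOpen_iff_finite_and_eq_biUnion_basicOpen.mp
    ⟨hYc, hY.isOpen_compl⟩
  obtain ⟨X₀, S₀, f₀, g, g', _, _, hpb, hft, _, hT, F₀, hF₀, hfl₀, ⟨e⟩⟩ :=
    K139.ApproxElt.approx_flat_module f F hqc hfp hfl hs.toFinset
  have hN : IsNoetherianRing Γ(S₀, ⊤) := Algebra.FiniteType.isNoetherianRing ℤ _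
  have hS₀ : IsLocallyNoetherian S₀ := isLocallyNoetherian_iff_of_iSup_eq_top
    (S := fun _ : Unit => ⟨⊤, isAffineOpen_top S₀⟩) (by simp) |>.mpr fun _ => hN
  have hX₀ : IsLocallyNoetherian X₀ := LocallyOfFiniteType.isLocallyNoetherian f₀
  have hX₀' : IsNoetherian X₀ := {}
  have hfp₀ : LocallyOfFinitePresentation f₀ := inferInstance
  choose! c hc using fun t (ht : t ∈ hs.toFinset) => hT t ht
  let Y₀ : Set X₀ := (⋃ t ∈ s, (X₀.basicOpen (c t) : Set X₀))ᶜ
  have hY₀ : IsClosed Y₀ := by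
    rw [← isOpen_compl_iff, compl_compl]
    exact isOpen_biUnion fun t _ => (X₀.basicOpen (c t)).isOpen
  have hpre : g' ⁻¹' Y₀ = Y := by
    rw [← compl_inj_iff, hYs, ← Set.preimage_compl, compl_compl, Set.preimage_iUnion₂]
    refine Set.iUnion₂_congr fun t ht => ?_
    have h1 : g' ⁻¹ᵁ (X₀.basicOpen (c t)) = X.basicOpen (g'.appTop (c t)) :=
      Scheme.preimage_basicOpen_top _ _
    rw [hc t (hs.mem_toFinset.mpr ht)] at h1
    rw [← h1]
    rfl
  have hU := fun n => Groth.Agent.S2872.result f₀ ⟨Y₀, hY₀⟩ F₀ hF₀.1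
    (K476.HomSh3.isFP_of_isCoh hF₀) hfl₀ n
  choose U hU using hU
  refine ⟨fun n => g' ⁻¹' (U n : Set X₀), fun n => ⟨(U n).isOpen.preimage g'.continuous, ?_⟩, ?_⟩
  · exact QuasiCompact.isCompact_preimage (U n : Set X₀) (U n).isOpen
      (NoetherianSpace.isCompact (U n : Set X₀))
  · intro n x hx
    have hx' : g' x ∈ Y₀ := by rwa [← hpre] at hx
    have h1 := hU n (g' x) hx'
    have h2 := fiberDepthAlong_baseChange hpb F₀ hF₀ Y₀ hY₀ x hx'
    rw [hpre, fiberDepthAlong_of_iso f e] at h2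
    change _ ↔ (n : ℕ∞) ≤ CInt.fiberDepthAlong f₀ F₀ Y₀ (g' x) at h1
    rw [← h2] at h1
    exact h1

/-- A locally constructible closed set has quasi-compact complement in every affine open. -/
theorem isCompact_compl_preimage (Y : Set X) (hY : IsLocallyConstructible Y) (W : X.Opens)
    (hW : IsAffineOpen W) : IsCompact (W.ι ⁻¹' Y)ᶜ := by
  have : IsAffine W := hW
  have h1 : IsLocallyConstructible (W.ι ⁻¹' Y) :=
    hY.preimage_of_isOpenEmbedding W.ι.isOpenEmbedding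
  exact isCompact_of_isConstructible h1.isConstructible.compl

/-- The case of affine opens. -/
theorem exists_opens (f : X ⟶ S) [LocallyOfFinitePresentation f]
    (Y : Set X) (hY : IsClosed Y) (hY' : IsLocallyConstructible Y) (F : X.Modules)
    (hfp : CohB1.IsFP F) (hfl : FlatMod.IsFlatOver f F)
    (V : S.Opens) (hV : IsAffineOpen V) (W : X.Opens) (hW : IsAffineOpen W) (e : W ≤ f ⁻¹ᵁ V) :
    ∃ U : ℕ → Set (W : Scheme.{u}), (∀ n, IsOpen (U n) ∧ IsCompact (U n)) ∧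
      ∀ n x, W.ι x ∈ Y → (x ∈ U n ↔ (n : ℕ∞) ≤ CInt.fiberDepthAlong f F Y (W.ι x)) := by
  have : IsAffine W := hW
  have : IsAffine V := hV
  have hfp' : CohB1.IsFP ((Scheme.Modules.pullback W.ι).obj F) :=
    Groth.Agent.SDiv.K474.FittBlow2.isFP_pullback W.ι hfp
  have hfl' : FlatMod.IsFlatOver (f.resLE V W e) ((Scheme.Modules.pullback W.ι).obj F) :=
    Groth.Agent.Models2.FlatIso.isFlatOver_of_iso _
      ((Scheme.Modules.restrictFunctorIsoPullback W.ι).app F)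
      (Ega3B.FlatRestrict.isFlatOver_restrict f (f.resLE V W e) W.ι V.ι
        (f.resLE_comp_ι e).symm F hfl)
  have hcoh : Coh.IsCoh F := K476.HomSh3.isCoh_of_isFP hfp
  obtain ⟨U, h1, h2⟩ := affine (f.resLE V W e) (W.ι ⁻¹' Y) (hY.preimage W.ι.continuous)
    (isCompact_compl_preimage Y hY' W hW) ((Scheme.Modules.pullback W.ι).obj F)
    (FormalA.PullbackQC.isCoh_pullback _ F hcoh).1 hfp' hfl'
  refine ⟨U, h1, fun n x hx => ?_⟩
  rw [h2 n x hx, fiberDepthAlong_resLE f F hcoh Y hY V W e x hx]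

theorem isRetrocompact (f : X ⟶ S) [LocallyOfFinitePresentation f]
    (Y : Set X) (hY : IsClosed Y) (hY' : IsLocallyConstructible Y) (F : X.Modules)
    (hfp : CohB1.IsFP F) (hfl : FlatMod.IsFlatOver f F) (n : ℕ) :
    IsRetrocompact {y : X | y ∈ Y ∧ (n : ℕ∞) ≤ CInt.fiberDepthAlong f F Y y} := by
  intro O hO hO'
  have key : ∀ x : O, ∃ W : X.Opens, x.1 ∈ W ∧ (W : Set X) ⊆ O ∧
      IsCompact ({y : X | y ∈ Y ∧ (n : ℕ∞) ≤ CInt.fiberDepthAlong f F Y y} ∩ W) := by
    rintro ⟨x, hx⟩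
    obtain ⟨V, hV, hxV, -⟩ := exists_isAffineOpen_mem_and_subset (x := f x) (U := ⊤) trivial
    obtain ⟨W, hW, hxW, h⟩ := exists_isAffineOpen_mem_and_subset (x := x)
      (U := f ⁻¹ᵁ V ⊓ ⟨O, hO'⟩) ⟨hxV, hx⟩
    refine ⟨W, hxW, h.trans (fun y hy => hy.2), ?_⟩
    obtain ⟨U, hU, hU'⟩ := exists_opens f Y hY hY' F hfp hfl V hV W hW
      (h.trans (fun y hy => hy.1))
    have h1 : IsCompact (W.ι '' (W.ι ⁻¹' Y ∩ U n)) :=
      (((hU n).2.inter_left (hY.preimage W.ι.continuous))).image W.ι.continuous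
    convert h1 using 1
    ext y
    constructor
    · rintro ⟨⟨h2, h3⟩, h4⟩
      refine ⟨⟨y, h4⟩, ⟨h2, (hU' n ⟨y, h4⟩ h2).mpr h3⟩, rfl⟩
    · rintro ⟨w, ⟨h2, h3⟩, rfl⟩
      exact ⟨⟨h2, (hU' n w h2).mp h3⟩, w.2⟩
  choose W h1 h2 h3 using key
  obtain ⟨t, ht⟩ := hO.elim_finite_subcover (fun x : O => (W x : Set X))
    (fun x => (W x).isOpen) (fun x hx => Set.mem_iUnion.mpr ⟨⟨x, hx⟩, h1 ⟨x, hx⟩⟩)
  have h4 : {y : X | y ∈ Y ∧ (n : ℕ∞) ≤ CInt.fiberDepthAlong f F Y y} ∩ O =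
      ⋃ x ∈ t, {y : X | y ∈ Y ∧ (n : ℕ∞) ≤ CInt.fiberDepthAlong f F Y y} ∩ (W x : Set X) := by
    rw [← Set.inter_iUnion₂]
    congr 1
    exact Set.Subset.antisymm ht (Set.iUnion₂_subset fun x _ => h2 x)
  rw [h4]
  exact t.finite_toSet.isCompact_biUnion fun x _ => h3 x

theorem stalkDim_le (U : Scheme.{u}) (u : U) :
    ringKrullDim (U.presheaf.stalk u) ≤ topologicalKrullDim U := by
  have h1 : topologicalKrullDim ↥U =
      ⨆ v : ↥U, ((@Order.coheight _ (specializationOrder _).toPreorder v : ℕ∞) : WithBot ℕ∞) :=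
    (Groth.Agent.Sga3C.DimTop.topologicalKrullDim_eq_krullDim (X := ↥U)).trans
      (@Order.krullDim_eq_iSup_coheight _ (specializationOrder ↥U).toPreorder)
  rw [h1, ringKrullDim_stalk_eq_coheight]
  exact le_iSup (fun v : ↥U =>
    ((@Order.coheight _ (specializationOrder _).toPreorder v : ℕ∞) : WithBot ℕ∞)) u

theorem stalkDim_le_localDim (X : Scheme.{u}) (x : X) :
    ringKrullDim (X.presheaf.stalk x) ≤ FlatMor.localDim X x := by
  refine le_iInf ?_
  rintro ⟨U, hU⟩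
  have h1 := stalkDim_le (U : Scheme.{u}) ⟨x, hU⟩
  refine (ringKrullDim_eq_of_ringEquiv
    (Scheme.Opens.stalkIso U ⟨x, hU⟩).commRingCatIsoToRingEquiv).symm.le.trans h1

theorem fiberDepth_le (f : X ⟶ S) [LocallyOfFiniteType f] (F : X.Modules) (hF : Coh.IsCoh F) (N : ℕ)
    (x : X) (hN : FlatMor.fibreDimAt f x ≤ N) :
    CInt.fiberDepth f F x ≤ N ∨ CInt.fiberDepth f F x = ⊤ := by
  have h1 : ringKrullDim (CInt.fiberStalk f x) ≤ N := (stalkDim_le_localDim _ _).trans hN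
  have h2 := K139.DepthAlong.isLocallyNoetherian_fiber f (f x)
  have hG : Coh.IsCoh ((Scheme.Modules.pullback (f.fiberι (f x))).obj F) :=
    FormalA.PullbackQC.isCoh_pullback (f.fiberι (f x)) F hF
  have h3 := Groth.Agent.Ega4dB.FiniteStalk.finite_stalk _ hG.2 (f.asFiber x)
  unfold CInt.fiberDepth
  rcases subsingleton_or_nontrivial (((Scheme.Modules.pullback
    (f.fiberι (f.base x))).obj F).presheaf.stalk (f.asFiber x)) with h4 | h4
  · right
    exact Groth.Agent.Ega4B.DepthBasic.depth_eq_top_of_subsingleton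
  · left
    obtain ⟨P, hP⟩ := associatedPrimes.nonempty (CInt.fiberStalk f x) (((Scheme.Modules.pullback
      (f.fiberι (f.base x))).obj F).presheaf.stalk (f.asFiber x))
    have h5 := Groth.Agent.Ega4A.Depth.depth_le_ringKrullDim_quotient hP
    have h6 := (h5.trans (ringKrullDim_quotient_le P)).trans h1
    exact_mod_cast h6

/-- On an affine chart the finite values of the fibrewise depth along `Y` are bounded. -/
theorem exists_bound (f : X ⟶ S) [LocallyOfFiniteType f] (Y : Set X) (F : X.Modules)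
    (hF : Coh.IsCoh F) (V : S.Opens) (hV : IsAffineOpen V) (W : X.Opens) (hW : IsAffineOpen W)
    (e : W ≤ f ⁻¹ᵁ V) : ∃ N : ℕ, ∀ y ∈ W, ((N + 1 : ℕ) : ℕ∞) ≤ CInt.fiberDepthAlong f F Y y →
      CInt.fiberDepthAlong f F Y y = ⊤ := by
  obtain ⟨N, hN⟩ := Groth.Agent.S3389.exists_bound_affine f hV hW e
  refine ⟨N, fun y hy h => ?_⟩
  refine iInf_eq_top.mpr ?_
  rintro ⟨z, hzY, hz, hfz⟩
  have h1 : ((N + 1 : ℕ) : ℕ∞) ≤ CInt.fiberDepth f F z :=
    h.trans (K139.DepthAlong.fiberDepthAlong_le f F Y y z hzY hz hfz)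
  have h2 := hN z (hz.mem_open W.isOpen hy)
  rcases fiberDepth_le f F hF N z h2 with h3 | h3
  · exfalso
    have h4 := h1.trans h3
    have h5 : N + 1 ≤ N := by exact_mod_cast h4
    omega
  · exact h3

theorem finite_of_bound {α : Type*} (V : Set α) (φ : α → ℕ∞) (N : ℕ)
    (h : ∀ x ∈ V, ((N + 1 : ℕ) : ℕ∞) ≤ φ x → φ x = ⊤) : (φ '' V).Finite := by
  refine ((Set.finite_range (fun i : Fin (N + 1) => ((i : ℕ) : ℕ∞))).union
    (Set.finite_singleton ⊤)).subset ?_
  rintro _ ⟨x, hx, rfl⟩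
  by_cases h1 : ((N + 1 : ℕ) : ℕ∞) ≤ φ x
  · exact Or.inr (h x hx h1)
  · left
    rw [not_le] at h1
    obtain ⟨m, hm⟩ := ENat.ne_top_iff_exists.mp (ne_top_of_lt h1)
    rw [← hm] at h1
    refine ⟨⟨m, by exact_mod_cast h1⟩, hm⟩

theorem isConstructible_level {α : Type*} [TopologicalSpace α] (φ : α → ℕ∞) (N : ℕ)
    (h : ∀ x, ((N + 1 : ℕ) : ℕ∞) ≤ φ x → φ x = ⊤)
    (hc : ∀ n : ℕ, IsConstructible {x | (n : ℕ∞) ≤ φ x}) (t : ℕ∞) :
    IsConstructible {x | φ x = t} := by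
  induction t using ENat.recTopCoe with
  | top =>
    convert hc (N + 1) using 1
    ext x
    exact ⟨fun hx => by
      rw [Set.mem_ofPred_eq] at hx ⊢
      rw [hx]; exact le_top, h x⟩
  | coe n =>
    convert (hc n).sdiff (hc (n + 1)) using 1
    ext x
    simp only [Set.mem_ofPred_eq, Set.mem_sdiff, not_le]
    constructor
    · intro hx
      rw [hx]
      exact ⟨le_rfl, by exact_mod_cast Nat.lt_succ_self n⟩
    · rintro ⟨h1, h2⟩
      refine le_antisymm ?_ h1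
      obtain ⟨m, hm⟩ := ENat.ne_top_iff_exists.mp (ne_top_of_lt h2)
      rw [← hm] at h2 ⊢
      have h3 : m < n + 1 := by exact_mod_cast h2
      exact_mod_cast Nat.lt_succ_iff.mp h3

theorem locallyConstructible (f : X ⟶ S)
    [LocallyOfFinitePresentation f] (Y : Closeds X) (hY : IsLocallyConstructible (Y : Set X))
    (F : X.Modules) (hfp : CohB1.IsFP F) (hfl : FlatMod.IsFlatOver f F)
    (y₀ : ↥(Y : Set ↥X)) :
    ∃ V : Opens ↥(Y : Set ↥X), y₀ ∈ V ∧
      ((fun y : ↥(Y : Set ↥X) => CInt.fiberDepthAlong f F (Y : Set ↥X) y.1) ''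
        (V : Set ↥(Y : Set ↥X))).Finite ∧
      ∀ t : ℕ∞, IsConstructible
        {v : ↥V | CInt.fiberDepthAlong f F (Y : Set ↥X) v.1.1 = t} := by
  have hcoh : Coh.IsCoh F := K476.HomSh3.isCoh_of_isFP hfp
  obtain ⟨V, hV, hxV, -⟩ := exists_isAffineOpen_mem_and_subset (x := f y₀.1) (U := ⊤) trivial
  obtain ⟨W, hW, hxW, e⟩ := exists_isAffineOpen_mem_and_subset (x := y₀.1)
    (U := f ⁻¹ᵁ V) hxV
  obtain ⟨U, hU, hU'⟩ := exists_opens f Y Y.isClosed hY F hfp hfl V hV W hW e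
  obtain ⟨N, hN⟩ := exists_bound f (Y : Set X) F hcoh V hV W hW e
  let V' : Opens ↥(Y : Set ↥X) := ⟨Subtype.val ⁻¹' (W : Set X), W.isOpen.preimage continuous_subtype_val⟩
  refine ⟨V', hxW, finite_of_bound _ _ N fun y hy h => hN y.1 hy h, ?_⟩
  refine isConstructible_level _ N (fun v h => hN v.1.1 v.2 h) fun n => ?_
  let i : ↥V' → ↥(W : Scheme.{u}) := fun v => ⟨v.1.1, v.2⟩
  have hi : IsEmbedding i := by
    have h3 : IsEmbedding (W.ι ∘ i) := by
      have h4 : (W.ι ∘ i) = (Subtype.val : ↥(Y : Set ↥X) → X) ∘ (Subtype.val : ↥V' → _) := rfl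
      rw [h4]
      exact IsEmbedding.subtypeVal.comp IsEmbedding.subtypeVal
    exact IsEmbedding.of_comp
      (Continuous.subtype_mk (continuous_subtype_val.comp continuous_subtype_val) _)
      W.ι.continuous h3
  have hr : Set.range i = W.ι ⁻¹' (Y : Set X) := by
    ext w
    constructor
    · rintro ⟨v, rfl⟩
      exact v.1.2
    · intro hw
      exact ⟨⟨⟨w.1, hw⟩, w.2⟩, rfl⟩
  have hi' : IsClosedEmbedding i := ⟨hi, by
    rw [hr]
    exact Y.isClosed.preimage W.ι.continuous⟩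
  have : IsAffine W := hW
  have h1 : IsConstructible (U n) := (hU n).2.isConstructible (hU n).1
  have h2 := h1.preimage_of_isClosedEmbedding hi' (by
    rw [hr]
    exact isCompact_compl_preimage _ hY W hW)
  convert h2 using 1
  ext v
  exact (hU' n (i v) v.1.2).symm

end K139.DepthConstr
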