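import Groth.Agent.CInt.K139.FibDim
import Groth.Agent.Sga2lef.H82.FibDepth
import Groth.Agent.Ega4A.Depth

/-!
# Depth of the local rings of fibres and codimension
-/

set_option autoImplicit false
universe u
open CategoryTheory CategoryTheory.Limits AlgebraicGeometry TopologicalSpace IsLocalRing

namespace K139.FibDepth

variable {X X' S : Scheme.{u}}

theorem depth_le_dim (R : Type u) [CommRing R] [IsLocalRing R] [IsNoetherianRing R] :
    ((LocCoh.depth R R : ℕ∞) : WithBot ℕ∞) ≤ ringKrullDim R := by
  obtain ⟨P, hP⟩ := associatedPrimes.nonempty R R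
  exact (Groth.Agent.Ega4A.Depth.depth_le_ringKrullDim_quotient hP).trans
    (ringKrullDim_quotient_le P)

theorem dim_eq_depth (R : Type u) [CommRing R] [IsLocalRing R]
    (h : LocCoh.IsCohenMacaulayLocalRing R) :
    ringKrullDim R = ((LocCoh.depth R R : ℕ∞) : WithBot ℕ∞) := by
  have := h.supportDim_eq_depth
  rw [Module.supportDim_self_eq_ringKrullDim] at this
  convert this

/-- For a flat morphism with a Cohen-Macaulay fibre at `x`: `dim O_{X_s,x} ≤ depth O_{X,x}`. -/
theorem dim_fiberStalk_le_depth (f : X ⟶ S) [Flat f] [IsLocallyNoetherian X] [IsLocallyNoetherian S]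
    (x : X) (h : LocCoh.IsCohenMacaulayLocalRing (CInt.fiberStalk f x)) :
    ringKrullDim (CInt.fiberStalk f x) ≤
      ((LocCoh.depth (X.presheaf.stalk x) (X.presheaf.stalk x) : ℕ∞) : WithBot ℕ∞) := by
  rw [dim_eq_depth _ h]
  exact WithBot.coe_le_coe.mpr (Groth.Agent.Sga2lef.H82.FibDepth.depth_fiberStalk_le f x)

end K139.FibDepth
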