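import Groth.Agent.CInt.K139.FibFree
import Groth.Agent.CInt.K139.FibDepth
import Groth.Agent.Ega4dA.FibPair1
import Groth.Agent.Dual.H375.Hartogs
import Groth.Agent.Dcoh.StalkFF
import Groth.Agent.PerfA.CohSerre
import Groth.Agent.Ega4dB.DepthReg
import Mathlib.RingTheory.Regular.Flat

/-!
# Extension of sections of locally free modules on smooth families across fibrewise codimension two
-/

set_option autoImplicit false
universe u

open CategoryTheory CategoryTheory.Limits AlgebraicGeometry TopologicalSpace IsLocalRing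

namespace K139.FamExt

theorem depth_self_le_of_flat (R : Type u) [CommRing R] [IsLocalRing R] (M : Type u) [AddCommGroup M]
    [Module R M] [Module.Flat R M] : LocCoh.depth R R ≤ LocCoh.depth R M := by
  unfold LocCoh.depth
  refine ENat.forall_natCast_le_iff_le.mp fun n hn => ?_
  rw [Groth.Agent.Ega4dB.DepthReg.le_idealDepth_iff] at hn ⊢
  rcases hn with h | ⟨rs, h1, h2, h3⟩
  · exfalso
    rw [Ideal.smul_top_eq_map] at h
    have h4 : (IsLocalRing.maximalIdeal R) = ⊤ := by
      rw [eq_top_iff]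
      intro x _
      have hx : x ∈ ((IsLocalRing.maximalIdeal R).map (algebraMap R R)).restrictScalars R := by
        rw [h]; trivial
      simpa using hx
    exact (IsLocalRing.maximalIdeal.isMaximal R).ne_top h4
  · exact Or.inr ⟨rs, h1, h2,
      ((TensorProduct.rid R M).isWeaklyRegular_congr rs).mp h3.isWeaklyRegular_lTensor⟩

variable {X S : Scheme.{u}}

/-- depth of a finite locally free module on a smooth family at a point with fibre dimension `≥ 2`. -/
theorem two_le_depth (p : X ⟶ S) [Smooth p] [IsLocallyNoetherian X] [IsLocallyNoetherian S]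
    {E : X.Modules} (hE : FlatMod.IsFinLocFree E) (x : X)
    (hx : (2 : WithBot ℕ∞) ≤ ringKrullDim (CInt.fiberStalk p x)) :
    (2 : ℕ∞) ≤ LocCoh.depth (X.presheaf.stalk x) (E.presheaf.stalk x) := by
  obtain ⟨h2, -⟩ := Groth.Agent.Dcoh.StalkFF.FF_of_isFinLocFree hE x
  refine le_trans ?_ (depth_self_le_of_flat
    (X.presheaf.stalk x) (E.presheaf.stalk x))
  refine le_trans ?_ (Groth.Agent.Sga2lef.H82.FibDepth.depth_fiberStalk_le p x)
  rw [← Groth.Agent.Ega4dA.FibPair1.depth_fiberStalk] at hx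
  exact WithBot.coe_le_coe.mp hx

theorem isIso_unit (p : X ⟶ S) [Smooth p] [IsLocallyNoetherian X] [IsLocallyNoetherian S]
    {E : X.Modules} (hE : FlatMod.IsFinLocFree E) (V : X.Opens)
    (hV : ∀ x : X, x ∉ V → (2 : WithBot ℕ∞) ≤ ringKrullDim (CInt.fiberStalk p x)) :
    IsIso ((Scheme.Modules.restrictAdjunction V.ι).unit.app E) :=
  Groth.Agent.Dual.H375.Hartogs.isIso_unit
    (Groth.Agent.PerfA.CohSerre.isCoh_of_isFinLocFree hE) V
    (fun x hx => two_le_depth p hE x (hV x hx))

/-- The stalk of a flat family of torsion-free modules is free at points of fibre dimension `≤ 1`. -/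
theorem free_stalk (p : X ⟶ S) [Smooth p] [IsLocallyNoetherian X]
    {E : X.Modules} (hE : Coh.IsCoh E) (hfl : FlatMod.IsFlatOver p E)
    (htf : ∀ s : S, TorSh.IsTorsionFree ((Scheme.Modules.pullback (p.fiberι s)).obj E)) (x : X)
    (hx : ringKrullDim (CInt.fiberStalk p x) ≤ 1) :
    Module.Free (X.presheaf.stalk x) (E.presheaf.stalk x) := by
  have hreg := Groth.Agent.Ega4dA.FibPair1.isRegularLocalRing_fiberStalk p x
  have h1 := htf (p x) (p.asFiber x)
  have h2 : Module.Finite ((p.fiber (p x)).presheaf.stalk (p.asFiber x))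
      (((Scheme.Modules.pullback (p.fiberι (p x))).obj E).presheaf.stalk (p.asFiber x)) := by
    have hM : Module.Finite (X.presheaf.stalk (p.fiberι (p x) (p.asFiber x)))
      (E.presheaf.stalk (p.fiberι (p x) (p.asFiber x))) :=
      Groth.Agent.Divis.StalkMod.finite_stalk hE _
    let := Groth.Agent.Fdesc.PullbackStalk.stalkAlg (p.fiberι (p x)) (p.asFiber x)
    let := FlatMod.moduleStalkOver (p.fiberι (p x))
      ((Scheme.Modules.pullback (p.fiberι (p x))).obj E) (p.asFiber x)
    have := Groth.Agent.Fdesc.PullbackStalk.isScalarTower (p.fiberι (p x))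
      ((Scheme.Modules.pullback (p.fiberι (p x))).obj E) (p.asFiber x)
    have hbc := Groth.Agent.Fdesc.PullbackStalk.isBaseChange_can (p.fiberι (p x)) E (p.asFiber x)
    exact Module.Finite.equiv hbc.equiv
  have h3 := K139.FibFree.free_of_isTorsionFree_of_dim_le_one
    ((p.fiber (p x)).presheaf.stalk (p.asFiber x))
    (((Scheme.Modules.pullback (p.fiberι (p x))).obj E).presheaf.stalk (p.asFiber x)) hx
  have h4 := K139.FibFree.free_stalk_of_free_fiber p hE hfl (p x) (p.asFiber x) h3
  rwa [p.fiberι_asFiber] at h4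

theorem two_le_of_not_mem (p : X ⟶ S) [Smooth p] [IsLocallyNoetherian X]
    {E : X.Modules} (hE : Coh.IsCoh E) (hfl : FlatMod.IsFlatOver p E)
    (htf : ∀ s : S, TorSh.IsTorsionFree ((Scheme.Modules.pullback (p.fiberι s)).obj E))
    (U : X.Opens) (hU : ∀ x : X, x ∈ U ↔ ∃ (V : X.Opens) (n : ℕ), x ∈ V ∧
      Nonempty (E.restrict V.ι ≅ FlatMod.freeMod (↑V) n)) (x : X) (hx : x ∉ U) :
    (2 : WithBot ℕ∞) ≤ ringKrullDim (CInt.fiberStalk p x) := by
  by_contra h
  apply hx
  rw [hU]
  apply Groth.Agent.Divis.StalkMod.exists_free_nhd hE x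
  apply free_stalk p hE hfl htf x
  obtain ⟨b, hb⟩ := WithBot.ne_bot_iff_exists.mp
    (ringKrullDim_ne_bot (R := CInt.fiberStalk p x))
  rw [← hb] at h ⊢
  rw [not_le] at h
  have h1 : b < 2 := WithBot.coe_lt_coe.mp h
  have h2 : b ≤ 1 := Order.le_of_lt_add_one (by rw [one_add_one_eq_two]; exact h1)
  exact_mod_cast h2

theorem existsUnique_hom {E F : X.Modules} (U : X.Opens)
    (h : IsIso ((Scheme.Modules.restrictAdjunction U.ι).unit.app F))
    (ψ : E.restrict U.ι ⟶ F.restrict U.ι) :
    ∃! φ : E ⟶ F, (Scheme.Modules.restrictFunctor U.ι).map φ = ψ := by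
  obtain ⟨φ, hφ⟩ := Groth.Agent.Dual.H375.StalkIso.exists_extend U.ι h ψ
  refine ⟨φ, hφ, fun φ' hφ' => ?_⟩
  have h1 := (Scheme.Modules.restrictAdjunction U.ι).unit.naturality φ
  have h2 := (Scheme.Modules.restrictAdjunction U.ι).unit.naturality φ'
  simp only [Functor.id_obj, Functor.id_map, Functor.comp_obj, Functor.comp_map] at h1 h2
  rw [← cancel_mono ((Scheme.Modules.restrictAdjunction U.ι).unit.app F), h1, h2, hφ]
  rw [hφ']

end K139.FamExt
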