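import Groth.Agent.Ega4dB.FiberStalk
import Groth.Agent.FibDim.K582.RingDim
import Mathlib.AlgebraicGeometry.Morphisms.Flat
import Mathlib.AlgebraicGeometry.Noetherian

/-!
# Dimensions of the local rings of fibres
-/

set_option autoImplicit false
universe u
open CategoryTheory CategoryTheory.Limits AlgebraicGeometry TopologicalSpace IsLocalRing

namespace K139.FibDim

open Groth.Agent.Ega4dB.FiberStalk

variable {X X' S : Scheme.{u}}

theorem dim_fiberStalk_eq (f : X ⟶ S) (x : X) :
    ringKrullDim (CInt.fiberStalk f x) = ringKrullDim (X.presheaf.stalk x ⧸ fibIdeal f x) :=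
  (ringKrullDim_eq_of_ringEquiv (fiberStalkEquiv f x)).symm

theorem dim_fiberStalk_le (f : X ⟶ S) (x : X) :
    ringKrullDim (CInt.fiberStalk f x) ≤ ringKrullDim (X.presheaf.stalk x) :=
  ringKrullDim_le_of_surjective (toFiberStalk f x).hom (toFiberStalk_surjective f x)

instance isNoetherianRing_fiberStalk (f : X ⟶ S) [IsLocallyNoetherian X] (x : X) :
    IsNoetherianRing (CInt.fiberStalk f x) :=
  isNoetherianRing_of_surjective _ _ (toFiberStalk f x).hom (toFiberStalk_surjective f x)

theorem fibIdeal_comp (g : X' ⟶ X) (f : X ⟶ S) (x : X') :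
    fibIdeal (g ≫ f) x = (fibIdeal f (g x)).map (g.stalkMap x).hom := by
  rw [fibIdeal, fibIdeal, Ideal.map_map]
  congr 1
  rw [Scheme.Hom.stalkMap_comp]
  rfl

/-- For `g` flat, `dim O_{X',x} = dim O_{X,g x} + dim O_{X'_{g x},x}`. -/
theorem dim_stalk_eq_add (g : X' ⟶ X) [Flat g] [IsLocallyNoetherian X] [IsLocallyNoetherian X']
    (x : X') : ringKrullDim (X'.presheaf.stalk x) =
      ringKrullDim (X.presheaf.stalk (g x)) + ringKrullDim (CInt.fiberStalk g x) := by
  letI : Algebra (X.presheaf.stalk (g x)) (X'.presheaf.stalk x) := (g.stalkMap x).hom.toAlgebra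
  have h1 : IsLocalHom (algebraMap (X.presheaf.stalk (g x)) (X'.presheaf.stalk x)) :=
    inferInstanceAs (IsLocalHom (g.stalkMap x).hom)
  have h2 : Module.Flat (X.presheaf.stalk (g x)) (X'.presheaf.stalk x) := Flat.stalkMap g x
  rw [dim_fiberStalk_eq]
  exact (K582.RingDim.ringKrullDim_add (X.presheaf.stalk (g x)) (X'.presheaf.stalk x)).2 h2

theorem dim_stalk_le_add (g : X' ⟶ X) [IsLocallyNoetherian X] [IsLocallyNoetherian X']
    (x : X') : ringKrullDim (X'.presheaf.stalk x) ≤
      ringKrullDim (X.presheaf.stalk (g x)) + ringKrullDim (CInt.fiberStalk g x) := by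
  letI : Algebra (X.presheaf.stalk (g x)) (X'.presheaf.stalk x) := (g.stalkMap x).hom.toAlgebra
  have h1 : IsLocalHom (algebraMap (X.presheaf.stalk (g x)) (X'.presheaf.stalk x)) :=
    inferInstanceAs (IsLocalHom (g.stalkMap x).hom)
  rw [dim_fiberStalk_eq]
  exact (K582.RingDim.ringKrullDim_add (X.presheaf.stalk (g x)) (X'.presheaf.stalk x)).1

theorem isNoetherianRing_quot (f : X ⟶ S) [IsLocallyNoetherian X] (x : X) :
    IsNoetherianRing (X.presheaf.stalk x ⧸ fibIdeal f x) :=
  isNoetherianRing_of_surjective _ _ (Ideal.Quotient.mk (fibIdeal f x)) Ideal.Quotient.mk_surjective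

theorem dim_fiberStalk_comp_le (g : X' ⟶ X) (f : X ⟶ S) [IsLocallyNoetherian X]
    [IsLocallyNoetherian X'] (x : X') :
    ringKrullDim (CInt.fiberStalk (g ≫ f) x) ≤
      ringKrullDim (CInt.fiberStalk f (g x)) + ringKrullDim (CInt.fiberStalk g x) := by
  letI : Algebra (X.presheaf.stalk (g x)) (X'.presheaf.stalk x) := (g.stalkMap x).hom.toAlgebra
  have h1 : IsLocalHom (algebraMap (X.presheaf.stalk (g x)) (X'.presheaf.stalk x)) :=
    inferInstanceAs (IsLocalHom (g.stalkMap x).hom)
  rw [dim_fiberStalk_eq, dim_fiberStalk_eq, dim_fiberStalk_eq, fibIdeal_comp]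
  have h3 := isNoetherianRing_quot f (g x)
  have h4 : IsNoetherianRing (X'.presheaf.stalk x ⧸ (fibIdeal f (g x)).map
      (algebraMap (X.presheaf.stalk (g x)) (X'.presheaf.stalk x))) :=
    isNoetherianRing_of_surjective _ _ (Ideal.Quotient.mk _) Ideal.Quotient.mk_surjective
  exact (K582.RingDim.ringKrullDim_quotient_add (X.presheaf.stalk (g x)) (X'.presheaf.stalk x)
    (fibIdeal f (g x)) (fibIdeal_le f (g x))).1

theorem dim_fiberStalk_comp_eq (g : X' ⟶ X) (f : X ⟶ S) [IsLocallyNoetherian X]
    [IsLocallyNoetherian X'] [Flat g] (x : X') :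
    ringKrullDim (CInt.fiberStalk (g ≫ f) x) =
      ringKrullDim (CInt.fiberStalk f (g x)) + ringKrullDim (CInt.fiberStalk g x) := by
  letI : Algebra (X.presheaf.stalk (g x)) (X'.presheaf.stalk x) := (g.stalkMap x).hom.toAlgebra
  have h1 : IsLocalHom (algebraMap (X.presheaf.stalk (g x)) (X'.presheaf.stalk x)) :=
    inferInstanceAs (IsLocalHom (g.stalkMap x).hom)
  have h2 : Module.Flat (X.presheaf.stalk (g x)) (X'.presheaf.stalk x) := Flat.stalkMap g x
  rw [dim_fiberStalk_eq, dim_fiberStalk_eq, dim_fiberStalk_eq, fibIdeal_comp]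
  have h3 := isNoetherianRing_quot f (g x)
  have h4 : IsNoetherianRing (X'.presheaf.stalk x ⧸ (fibIdeal f (g x)).map
      (algebraMap (X.presheaf.stalk (g x)) (X'.presheaf.stalk x))) :=
    isNoetherianRing_of_surjective _ _ (Ideal.Quotient.mk _) Ideal.Quotient.mk_surjective
  exact (K582.RingDim.ringKrullDim_quotient_add (X.presheaf.stalk (g x)) (X'.presheaf.stalk x)
    (fibIdeal f (g x)) (fibIdeal_le f (g x))).2 h2

theorem zero_le_dim (R : Type u) [CommRing R] [Nontrivial R] : 0 ≤ ringKrullDim R :=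
  ringKrullDim_nonneg_of_nontrivial

theorem dim_fiberStalk_le_comp (g : X' ⟶ X) (f : X ⟶ S) [IsLocallyNoetherian X]
    [IsLocallyNoetherian X'] [Flat g] (x : X') :
    ringKrullDim (CInt.fiberStalk f (g x)) ≤ ringKrullDim (CInt.fiberStalk (g ≫ f) x) := by
  rw [dim_fiberStalk_comp_eq]
  have : (0 : WithBot ℕ∞) ≤ ringKrullDim (CInt.fiberStalk g x) := ringKrullDim_nonneg_of_nontrivial
  exact le_add_of_nonneg_right this

/-- transport: the fibre local ring does not depend on the presentation of the point. -/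
theorem dim_stalk_fiber_eq (f : X ⟶ S) (s : S) (y : f.fiber s) (x : X) (hy : f.fiberι s y = x) :
    ringKrullDim ((f.fiber s).presheaf.stalk y) = ringKrullDim (CInt.fiberStalk f x) := by
  have hs : f x = s := by
    have := f.range_fiberι s
    have h2 : f.fiberι s y ∈ f ⁻¹' {s} := by rw [← this]; exact ⟨y, rfl⟩
    rw [hy] at h2
    exact h2
  subst hs
  have : y = f.asFiber x := by
    apply (f.fiberι (f x)).isEmbedding.injective
    rw [hy, f.fiberι_asFiber]
  subst this
  rfl

theorem apply_fiberι (f : X ⟶ S) (s : S) (y : f.fiber s) : f (f.fiberι s y) = s := by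
  have : f.fiberι s y ∈ Set.range (f.fiberι s) := ⟨y, rfl⟩
  rw [f.range_fiberι] at this
  exact this

/-- every point has a generization with zero-dimensional local ring. -/
theorem exists_generization_dim_zero (F : Scheme.{u}) (x : F) :
    ∃ η : F, η ⤳ x ∧ ringKrullDim (F.presheaf.stalk η) = 0 := by
  obtain ⟨η, hη⟩ := QuasiSober.sober (isIrreducible_irreducibleComponent (x := x))
    isClosed_irreducibleComponent
  refine ⟨η, ?_, ?_⟩
  · rw [specializes_iff_mem_closure, hη.def]
    exact mem_irreducibleComponent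
  · rw [ringKrullDim_stalk_eq_coheight]
    have h1 : Order.coheight η = 0 := by
      rw [Order.coheight_eq_zero]
      intro z hz
      have hz' : z ⤳ η := hz
      have h2 : irreducibleComponent x ⊆ closure {z} := by
        rw [← hη.def]
        exact closure_minimal (Set.singleton_subset_iff.mpr hz'.mem_closure) isClosed_closure
      have h3 := eq_irreducibleComponent (isIrreducible_singleton (x := z)).closure.isPreirreducible h2
      have h4 : η ⤳ z := by
        rw [specializes_iff_mem_closure, hη.def, ← h3]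
        exact subset_closure rfl
      exact h4
    rw [h1]
    rfl

/-- every point of a fibre has a generization in the fibre with zero-dimensional fibre local ring. -/
theorem exists_generization_fiberStalk (g : X' ⟶ X) (x₀ : X') :
    ∃ x : X', x ⤳ x₀ ∧ g x = g x₀ ∧ ringKrullDim (CInt.fiberStalk g x) = 0 := by
  obtain ⟨η, h1, h2⟩ := exists_generization_dim_zero (g.fiber (g x₀)) (g.asFiber x₀)
  refine ⟨g.fiberι (g x₀) η, ?_, apply_fiberι g _ η, ?_⟩
  · have h3 := h1.map (g.fiberι (g x₀)).continuous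
    rwa [g.fiberι_asFiber] at h3
  · rw [← dim_stalk_fiber_eq g _ η _ rfl]
    exact h2

end K139.FibDim
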