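import Groth.Agent.CInt.K139.FibDim
import Groth.Agent.Ega4dB.CIFibre

/-!
# Dimensions of the local rings of fibres under base change
-/

set_option autoImplicit false
universe u
open CategoryTheory CategoryTheory.Limits AlgebraicGeometry TopologicalSpace IsLocalRing

namespace K139.FibDim

open Groth.Agent.Ega4dB.FiberStalk Groth.Agent.Ega4dB.CIFibre

variable {X X' S S' P : Scheme.{u}}

/-- For `g` flat, `dim O_{X',x} = dim O_{X,g x} + dim O_{X'_{g x},x}`; only the two local rings
are assumed Noetherian. -/
theorem dim_stalk_eq_add_of_noeth (g : X' ⟶ X) [Flat g] (x : X')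
    (hx : IsNoetherianRing (X.presheaf.stalk (g x))) (hx' : IsNoetherianRing (X'.presheaf.stalk x)) :
    ringKrullDim (X'.presheaf.stalk x) =
      ringKrullDim (X.presheaf.stalk (g x)) + ringKrullDim (CInt.fiberStalk g x) := by
  let _ : Algebra (X.presheaf.stalk (g x)) (X'.presheaf.stalk x) := (g.stalkMap x).hom.toAlgebra
  have h1 : IsLocalHom (algebraMap (X.presheaf.stalk (g x)) (X'.presheaf.stalk x)) :=
    inferInstanceAs (IsLocalHom (g.stalkMap x).hom)
  have h2 : Module.Flat (X.presheaf.stalk (g x)) (X'.presheaf.stalk x) := Flat.stalkMap g x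
  rw [dim_fiberStalk_eq]
  exact (K582.RingDim.ringKrullDim_add (X.presheaf.stalk (g x)) (X'.presheaf.stalk x)).2 h2

theorem isNoetherianRing_stalk_fiber (f : X ⟶ S) [IsLocallyNoetherian X] (s : S) (y : f.fiber s) :
    IsNoetherianRing ((f.fiber s).presheaf.stalk y) := by
  have hs : f (f.fiberι s y) = s := apply_fiberι f s y
  obtain ⟨x, hx⟩ : ∃ x, x = f.fiberι s y := ⟨_, rfl⟩
  rw [← hx] at hs
  subst hs
  have : y = f.asFiber x := by
    apply (f.fiberι (f x)).isEmbedding.injective
    rw [← hx, f.fiberι_asFiber]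
  subst this
  exact isNoetherianRing_fiberStalk f x

theorem flat_of_isField (K L : CommRingCat.{u}) (hK : IsField K) (φ : K ⟶ L) : Flat (Spec.map φ) := by
  rw [HasRingHomProperty.Spec_iff (P := @Flat)]
  let _ : Field K := hK.toField
  let _ : Algebra K L := φ.hom.toAlgebra
  exact (inferInstance : Module.Flat K L)

theorem flat_fiberBaseChange {fst : P ⟶ X} {snd : P ⟶ S'} {f : X ⟶ S} {g : S' ⟶ S}
    (h : IsPullback fst snd f g) (s' : S') : Flat (fiberBaseChange h s') := by
  have h1 := isPullback_fiberBaseChange h s'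
  have h2 : Flat (Spec.map (g.residueFieldMap s')) :=
    flat_of_isField _ _ (Field.toIsField _) _
  exact MorphismProperty.of_isPullback h1.flip h2

variable {fst : P ⟶ X} {snd : P ⟶ S'} {f : X ⟶ S} {g : S' ⟶ S} (h : IsPullback fst snd f g)

theorem fiberι_fiberBaseChange (s' : S') (y : snd.fiber s') :
    f.fiberι (g s') (fiberBaseChange h s' y) = fst (snd.fiberι s' y) := by
  rw [← Scheme.Hom.comp_apply, fiberBaseChange_fiberι, Scheme.Hom.comp_apply]

theorem dim_fiberStalk_baseChange [IsLocallyNoetherian P] [IsLocallyNoetherian X] (s' : S')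
    (y : snd.fiber s') :
    ringKrullDim (CInt.fiberStalk snd (snd.fiberι s' y)) =
      ringKrullDim (CInt.fiberStalk f (fst (snd.fiberι s' y))) +
        ringKrullDim (CInt.fiberStalk (fiberBaseChange h s') y) := by
  have hfl := flat_fiberBaseChange h s'
  have h1 := dim_stalk_eq_add_of_noeth (fiberBaseChange h s') y
    (isNoetherianRing_stalk_fiber f _ _) (isNoetherianRing_stalk_fiber snd _ _)
  rw [dim_stalk_fiber_eq snd s' y _ rfl,
    dim_stalk_fiber_eq f (g s') (fiberBaseChange h s' y) _ (fiberι_fiberBaseChange h s' y)] at h1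
  exact h1

include h in
/-- The dimension of the fibre local rings does not drop under base change. -/
theorem dim_fiberStalk_le_baseChange [IsLocallyNoetherian P] [IsLocallyNoetherian X] (p : P) :
    ringKrullDim (CInt.fiberStalk f (fst p)) ≤ ringKrullDim (CInt.fiberStalk snd p) := by
  have h1 := dim_fiberStalk_baseChange h (snd p) (snd.asFiber p)
  rw [snd.fiberι_asFiber] at h1
  rw [h1]
  have : (0 : WithBot ℕ∞) ≤
      ringKrullDim (CInt.fiberStalk (fiberBaseChange h (snd p)) (snd.asFiber p)) :=
    ringKrullDim_nonneg_of_nontrivial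
  exact le_add_of_nonneg_right this

include h in
/-- Over every point `x` in the image there is a point with the same fibre dimension. -/
theorem exists_dim_fiberStalk_baseChange_eq [IsLocallyNoetherian P] [IsLocallyNoetherian X] (p₀ : P) :
    ∃ p : P, fst p = fst p₀ ∧
      ringKrullDim (CInt.fiberStalk snd p) = ringKrullDim (CInt.fiberStalk f (fst p)) := by
  obtain ⟨y, -, hy2, hy3⟩ :=
    exists_generization_fiberStalk (fiberBaseChange h (snd p₀)) (snd.asFiber p₀)
  refine ⟨snd.fiberι (snd p₀) y, ?_, ?_⟩
  · rw [← fiberι_fiberBaseChange h, hy2, fiberι_fiberBaseChange h, snd.fiberι_asFiber]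
  · rw [dim_fiberStalk_baseChange h, hy3, add_zero]

end K139.FibDim
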