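import Groth.Agent.Lefpen.H718.Grade
import Groth.Agent.Lefpen.H649.GenericSmooth
import Mathlib.Algebra.MvPolynomial.Funext
import Mathlib.RingTheory.MvPolynomial.Localization
import Mathlib.Algebra.Order.Antidiag.Finsupp

/-!
# Existence of smooth complete intersections of given degrees over an infinite field

The Jacobian condition holds for the generic forms; it spreads out over a non-empty open subset of the
space of coefficients, which has points over any infinite field.
-/

set_option autoImplicit false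
universe u

open MvPolynomial

namespace K139.GenSpec

open Groth.Agent.Lefpen.H718.Reg

/-- The two kinds of equations: the forms, and the dependency of the gradients with coefficients the
second block of variables. -/
noncomputable def eqs {A : Type u} [CommRing A] {N d : ℕ} (G : Fin d → MvPolynomial (Fin (N + 1)) A) :
    Fin d ⊕ Fin (N + 1) → MvPolynomial (Fin (N + 1) ⊕ Fin d) A :=
  Sum.elim (fun i => rename Sum.inl (G i))
    (fun l => ∑ i, X (Sum.inr i) * rename Sum.inl (pderiv l (G i)))

theorem map_eqs {A B : Type u} [CommRing A] [CommRing B] (φ : A →+* B) {N d : ℕ}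
    (G : Fin d → MvPolynomial (Fin (N + 1)) A) (s : Fin d ⊕ Fin (N + 1)) :
    map φ (eqs G s) = eqs (fun i => map φ (G i)) s := by
  rcases s with i | l
  · simp [eqs, map_rename]
  · simp [eqs, map_rename, pderiv_map]

/-- evaluation at a point and a vector of multipliers -/
noncomputable def ev {A F : Type u} [CommRing A] [CommRing F] {N d : ℕ} (φ : A →+* F)
    (x : Fin (N + 1) → F) (c : Fin d → F) : MvPolynomial (Fin (N + 1) ⊕ Fin d) A →+* F :=
  eval₂Hom φ (Sum.elim x c)

theorem ev_rename {A F : Type u} [CommRing A] [CommRing F] {N d : ℕ} (φ : A →+* F)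
    (x : Fin (N + 1) → F) (c : Fin d → F) (p : MvPolynomial (Fin (N + 1)) A) :
    ev φ x c (rename Sum.inl p) = eval₂Hom φ x p := by
  simp only [ev, coe_eval₂Hom]
  rw [eval₂_rename]
  rfl

/-- For the generic fibre satisfying the Jacobian condition, a power of `x_j c_i` lies in the ideal of
the equations. -/
theorem exists_pow_mem {K : Type u} [Field K] {N d : ℕ} (G : Fin d → MvPolynomial (Fin (N + 1)) K)
    (hJ : JacCond G) (j : Fin (N + 1)) (i₀ : Fin d) :
    ∃ m : ℕ, (X (Sum.inl j) * X (Sum.inr i₀) : MvPolynomial (Fin (N + 1) ⊕ Fin d) K) ^ m ∈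
      Ideal.span (Set.range (eqs G)) := by
  change (X (Sum.inl j) * X (Sum.inr i₀) : MvPolynomial (Fin (N + 1) ⊕ Fin d) K) ∈
    (Ideal.span (Set.range (eqs G))).radical
  rw [Ideal.radical_eq_sInf]
  refine (Submodule.mem_sInf).mpr ?_
  rintro Q ⟨hle, hQ⟩
  by_contra hmem
  let F := FractionRing (MvPolynomial (Fin (N + 1) ⊕ Fin d) K ⧸ Q)
  let π : MvPolynomial (Fin (N + 1) ⊕ Fin d) K →+* F :=
    (algebraMap (MvPolynomial (Fin (N + 1) ⊕ Fin d) K ⧸ Q) F).comp (Ideal.Quotient.mk Q)
  have hπ : ∀ y, π y = 0 ↔ y ∈ Q := by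
    intro y
    rw [RingHom.comp_apply, IsFractionRing.to_map_eq_zero_iff, Ideal.Quotient.eq_zero_iff_mem]
  let v : MvPolynomial (Fin (N + 1)) K →+* F :=
    π.comp (rename Sum.inl : MvPolynomial (Fin (N + 1)) K →ₐ[K] _).toRingHom
  have h1 : ∀ i, v (G i) = 0 := fun i => (hπ _).2 (hle (Ideal.subset_span ⟨Sum.inl i, rfl⟩))
  have hx : π (X (Sum.inl j)) ≠ 0 := fun h => hmem (Ideal.mul_mem_right _ Q ((hπ _).1 h))
  have hc : π (X (Sum.inr i₀)) ≠ 0 := fun h => hmem (Ideal.mul_mem_left Q _ ((hπ _).1 h))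
  have hlin := hJ F v h1 ⟨j, by
    change π (rename Sum.inl (X j)) ≠ 0
    rw [rename_X]; exact hx⟩
  rw [Fintype.linearIndependent_iff] at hlin
  refine hc (hlin (fun i => π (X (Sum.inr i))) ?_ i₀)
  funext l
  simp only [Finset.sum_apply, Pi.smul_apply, smul_eq_mul, Pi.zero_apply]
  have h2 : π (eqs G (Sum.inr l)) = 0 := (hπ _).2 (hle (Ideal.subset_span ⟨Sum.inr l, rfl⟩))
  simp only [eqs, Sum.elim_inr, map_sum, map_mul] at h2
  exact h2

section Spread

attribute [local instance] MvPolynomial.algebraMvPolynomial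

/-- Spreading out of the Jacobian condition from the generic point. -/
theorem exists_open {A K : Type u} [CommRing A] [IsDomain A] [Field K] [Algebra A K] [IsFractionRing A K]
    {N d : ℕ} (G : Fin d → MvPolynomial (Fin (N + 1)) A)
    (hJ : JacCond (fun i => map (algebraMap A K) (G i))) :
    ∃ h : A, h ≠ 0 ∧ ∀ (k : Type u) [Field k] (φ : A →+* k), φ h ≠ 0 →
      JacCond (fun i => map φ (G i)) := by
  have key : ∀ ji : Fin (N + 1) × Fin d, ∃ (s : A) (m : ℕ), s ≠ 0 ∧
      C s * (X (Sum.inl ji.1) * X (Sum.inr ji.2) : MvPolynomial (Fin (N + 1) ⊕ Fin d) A) ^ m ∈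
        Ideal.span (Set.range (eqs G)) := by
    rintro ⟨j, i₀⟩
    obtain ⟨m, hm⟩ := exists_pow_mem _ hJ j i₀
    have hmap : Ideal.span (Set.range (eqs (fun i => map (algebraMap A K) (G i)))) =
        (Ideal.span (Set.range (eqs G))).map
          (algebraMap (MvPolynomial (Fin (N + 1) ⊕ Fin d) A) (MvPolynomial (Fin (N + 1) ⊕ Fin d) K)) := by
      rw [Ideal.map_span, ← Set.range_comp]
      congr 2
      funext s
      exact (map_eqs (algebraMap A K) G s).symm
    have hel : (X (Sum.inl j) * X (Sum.inr i₀) : MvPolynomial (Fin (N + 1) ⊕ Fin d) K) ^ m =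
        algebraMap (MvPolynomial (Fin (N + 1) ⊕ Fin d) A) (MvPolynomial (Fin (N + 1) ⊕ Fin d) K)
          ((X (Sum.inl j) * X (Sum.inr i₀)) ^ m) := by
      change _ = map (algebraMap A K) _
      simp
    rw [hmap, hel, IsLocalization.algebraMap_mem_map_algebraMap_iff ((nonZeroDivisors A).map C)] at hm
    obtain ⟨_, ⟨s, hs, rfl⟩, hsm⟩ := hm
    exact ⟨s, m, nonZeroDivisors.ne_zero hs, hsm⟩
  choose s m hs hmem using key
  refine ⟨∏ ji, s ji, Finset.prod_ne_zero_iff.mpr (fun ji _ => hs ji), ?_⟩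
  intro k _ φ hφ F _ v hv ⟨j, hj⟩
  rw [map_prod, Finset.prod_ne_zero_iff] at hφ
  rw [Fintype.linearIndependent_iff]
  intro c hc i₀
  by_contra hi₀
  let ψ : A →+* F := (v.comp C).comp φ
  let x : Fin (N + 1) → F := fun l => v (X l)
  have hψ : ∀ p : MvPolynomial (Fin (N + 1)) A, ev ψ x c (rename Sum.inl p) = v (map φ p) := by
    intro p
    rw [ev_rename]
    have : eval₂Hom ψ x = v.comp (map φ) := by
      apply MvPolynomial.ringHom_ext
      · intro r
        simp [ψ]
      · intro i
        simp [x]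
    rw [this]
    rfl
  have hker : Ideal.span (Set.range (eqs G)) ≤ RingHom.ker (ev ψ x c) := by
    rw [Ideal.span_le]
    rintro _ ⟨i | l, rfl⟩
    · change ev ψ x c (rename Sum.inl (G i)) = 0
      rw [hψ]
      exact hv i
    · change ev ψ x c (∑ i, X (Sum.inr i) * rename Sum.inl (pderiv l (G i))) = 0
      rw [map_sum]
      have h := congrFun hc l
      simp only [Finset.sum_apply, Pi.smul_apply, smul_eq_mul, Pi.zero_apply] at h
      rw [← h]
      refine Finset.sum_congr rfl fun i _ => ?_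
      rw [map_mul, hψ, pderiv_map]
      congr 1
      simp [ev]
  have h0 := hker (hmem (j, i₀))
  rw [RingHom.mem_ker, map_mul, map_pow, map_mul] at h0
  have h1 : ev ψ x c (C (s (j, i₀))) = v (C (φ (s (j, i₀)))) := by simp [ev, ψ]
  have h2 : ev ψ x c (X (Sum.inl j)) = v (X j) := by simp [ev, x]
  have h3 : ev ψ x c (X (Sum.inr i₀)) = c i₀ := by simp [ev]
  rw [h1, h2, h3] at h0
  have h4 : v (C (φ (s (j, i₀)))) ≠ 0 := by
    have h5 : (v.comp C) (φ (s (j, i₀))) ≠ 0 := by
      rw [Ne, map_eq_zero]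
      exact hφ (j, i₀) (Finset.mem_univ _)
    exact h5
  exact mul_ne_zero h4 (pow_ne_zero _ (mul_ne_zero hj hi₀)) h0

end Spread

/-- The index set of the coefficients. -/
abbrev Idx (N r : ℕ) : Type := Fin r × (Fin (N + 1) →₀ ℕ)

/-- The generic form of degree `a`, with coefficients the variables `(j, m)`. -/
noncomputable def gen (k : Type u) [Field k] (N r : ℕ) (a : Fin r → ℕ) (j : Fin r) :
    MvPolynomial (Fin (N + 1)) (MvPolynomial (Idx N r) k) :=
  ∑ m ∈ Finset.finsuppAntidiag Finset.univ (a j), monomial m (X (j, m))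

theorem gen_isHomogeneous (k : Type u) [Field k] (N r : ℕ) (a : Fin r → ℕ) (j : Fin r) :
    (gen k N r a j).IsHomogeneous (a j) := by
  refine IsHomogeneous.sum _ _ _ fun m hm => isHomogeneous_monomial _ ?_
  rw [Finset.mem_finsuppAntidiag] at hm
  rw [Finsupp.degree_eq_sum]
  exact hm.1

theorem coeff_gen (k : Type u) [Field k] (N r : ℕ) (a : Fin r → ℕ) (j : Fin r)
    (m : Fin (N + 1) →₀ ℕ) (hm : m.degree = a j) : coeff m (gen k N r a j) = X (j, m) := by
  classical
  rw [gen, coeff_sum]
  rw [Finset.sum_eq_single m]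
  · rw [coeff_monomial, if_pos rfl]
  · intro b _ hb
    rw [coeff_monomial, if_neg hb]
  · intro h
    exfalso
    apply h
    rw [Finset.mem_finsuppAntidiag]
    refine ⟨?_, Finset.subset_univ _⟩
    rw [← hm, Finsupp.degree_eq_sum]

/-- the generic subsystems satisfy the Jacobian condition -/
theorem jacCond_gen (k : Type u) [Field k] (N r : ℕ) (a : Fin r → ℕ) (ha : ∀ j, 0 < a j) {d : ℕ}
    (e : Fin d → Fin r) (he : Function.Injective e) :
    JacCond (fun i => map (algebraMap (MvPolynomial (Idx N r) k)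
      (FractionRing (MvPolynomial (Idx N r) k))) (gen k N r a (e i))) := by
  refine Groth.Agent.Lefpen.H649.GenericSmooth.jacCond_of_generic (a := fun i => a (e i)) k _
    (fun i => ha (e i)) (fun i => (gen_isHomogeneous k N r a (e i)).map _) ?_
  have h1 : AlgebraicIndependent k (fun jm : (Σ j : Fin d, {m : Fin (N + 1) →₀ ℕ // m.degree = a (e j)}) =>
      (X (e jm.1, jm.2.1) : MvPolynomial (Idx N r) k)) := by
    have h2 := MvPolynomial.algebraicIndependent_X (Idx N r) k
    refine h2.comp (fun jm : (Σ j : Fin d, {m : Fin (N + 1) →₀ ℕ // m.degree = a (e j)}) =>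
      (e jm.1, jm.2.1)) ?_
    rintro ⟨j, m, hm⟩ ⟨j', m', hm'⟩ h
    simp only [Prod.mk.injEq] at h
    obtain ⟨h3, h4⟩ := h
    have := he h3
    subst this
    subst h4
    rfl
  have h3 := h1.map' (f := IsScalarTower.toAlgHom k (MvPolynomial (Idx N r) k)
    (FractionRing (MvPolynomial (Idx N r) k))) (IsFractionRing.injective _ _)
  have h4 : (fun jm : (Σ j : Fin d, {m : Fin (N + 1) →₀ ℕ // m.degree = a (e j)}) =>
      coeff jm.2.1 (map (algebraMap (MvPolynomial (Idx N r) k)
        (FractionRing (MvPolynomial (Idx N r) k))) (gen k N r a (e jm.1)))) =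
      (IsScalarTower.toAlgHom k (MvPolynomial (Idx N r) k)
        (FractionRing (MvPolynomial (Idx N r) k))) ∘ fun jm => X (e jm.1, jm.2.1) := by
    funext jm
    rw [coeff_map, coeff_gen k N r a (e jm.1) jm.2.1 jm.2.2]
    rfl
  rw [h4]
  exact h3

/-- **Existence.** Over an infinite field there are forms of given degrees `> 0` such that the whole
system and each single form satisfy the Jacobian condition. -/
theorem exists_forms (k : Type u) [Field k] [Infinite k] (N r : ℕ) (a : Fin r → ℕ) (ha : ∀ j, 0 < a j) :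
    ∃ f : Fin r → MvPolynomial (Fin (N + 1)) k, (∀ i, (f i).IsHomogeneous (a i)) ∧ JacCond f ∧
      ∀ i, JacCond (fun _ : Fin 1 => f i) := by
  obtain ⟨h₀, hh₀, H₀⟩ := exists_open (gen k N r a) (jacCond_gen k N r a ha id Function.injective_id)
  have H1 : ∀ i : Fin r, ∃ h : MvPolynomial (Idx N r) k, h ≠ 0 ∧
      ∀ (k' : Type u) [Field k'] (φ : MvPolynomial (Idx N r) k →+* k'), φ h ≠ 0 →
        JacCond (fun _ : Fin 1 => map φ (gen k N r a i)) := fun i =>
    exists_open (fun _ : Fin 1 => gen k N r a i)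
      (jacCond_gen k N r a ha (fun _ : Fin 1 => i) (Function.injective_of_subsingleton _))
  choose h hh H using H1
  have hne : h₀ * ∏ i, h i ≠ 0 := mul_ne_zero hh₀ (Finset.prod_ne_zero_iff.mpr fun i _ => hh i)
  obtain ⟨c, hc⟩ : ∃ c : Idx N r → k, eval c (h₀ * ∏ i, h i) ≠ 0 := by
    by_contra hcon
    push Not at hcon
    exact hne (MvPolynomial.funext fun x => by rw [hcon x, map_zero])
  rw [map_mul, map_prod] at hc
  have hc0 := left_ne_zero_of_mul hc
  have hc1 := Finset.prod_ne_zero_iff.mp (right_ne_zero_of_mul hc)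
  exact ⟨fun i => map (eval c) (gen k N r a i), fun i => (gen_isHomogeneous k N r a i).map _,
    H₀ k (eval c) hc0, fun i => H i k (eval c) (hc1 i (Finset.mem_univ i))⟩

end K139.GenSpec
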