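import Groth.Agent.CInt.K139.FibDim
import Groth.Agent.S1679
import Groth.Agent.S2900
import Groth.Agent.S2881
import Groth.Agent.S2842
import Groth.Agent.Ega4dA.FibPair1

/-!
# Relative and absolute codimension of a smooth closed subscheme of a smooth scheme
-/

set_option autoImplicit false
universe u
open CategoryTheory CategoryTheory.Limits AlgebraicGeometry TopologicalSpace IsLocalRing

namespace K139.SmoothCodim

open K139.FibDim

theorem exists_le {X Y S : Scheme.{u}} [IsLocallyNoetherian X]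
    [IsLocallyNoetherian S] (f : X ⟶ S) [Smooth f] (i : Y ⟶ X) [IsClosedImmersion i] [Smooth (i ≫ f)]
    (z : Y) : ∃ w : Y, ringKrullDim (X.presheaf.stalk (i w)) ≤ ringKrullDim (CInt.fiberStalk f (i z)) := by
  have hY : IsLocallyNoetherian Y := LocallyOfFiniteType.isLocallyNoetherian i
  have hr1 : IsRegularLocalRing (CInt.fiberStalk f (i z)) :=
    Groth.Agent.Ega4dA.FibPair1.isRegularLocalRing_fiberStalk f (i z)
  have hr2 : IsRegularLocalRing (CInt.fiberStalk (i ≫ f) z) :=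
    Groth.Agent.Ega4dA.FibPair1.isRegularLocalRing_fiberStalk (i ≫ f) z
  have hci : Pi1.IsCompleteIntersection (CInt.fiberStalk (i ≫ f) z) :=
    Groth.Agent.S2842.isCompleteIntersection_of_isRegularLocalRing _
  obtain ⟨rs, hreg, hker⟩ := (Groth.Agent.S1679.result i z).mp
    ((Groth.Agent.S2900.result f i z).mpr hci)
  obtain ⟨w, hwz, hw⟩ := exists_generization_dim_zero Y z
  refine ⟨w, ?_⟩
  have hdimw : ringKrullDim (X.presheaf.stalk (i w)) = rs.length := by
    refine Groth.Agent.S2881.result i z rs hreg hker w hwz (fun z' hz' => ?_)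
    rw [ringKrullDim_stalk_eq_coheight] at hw
    have h0 : Order.coheight w = 0 := by exact_mod_cast hw
    rw [Order.coheight_eq_zero] at h0
    have h2 : w ⤳ z' := h0 hz'
    exact (hz'.antisymm h2).eq
  rw [hdimw]
  have h1 := dim_stalk_eq_add f (i z)
  have h2 := dim_stalk_eq_add (i ≫ f) z
  have h3 := ringKrullDim_add_length_eq_ringKrullDim_of_isRegular rs hreg
  have e : (X.presheaf.stalk (i z) ⧸ Ideal.ofList rs) ≃+* Y.presheaf.stalk z :=
    (Ideal.quotEquivOfEq hker.symm).trans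
      (RingHom.quotientKerEquivOfSurjective (i.stalkMap_surjective z))
  rw [ringKrullDim_eq_of_ringEquiv e, h1, h2] at h3
  have h4 : (0 : WithBot ℕ∞) ≤ ringKrullDim (CInt.fiberStalk (i ≫ f) z) :=
    ringKrullDim_nonneg_of_nontrivial
  obtain ⟨a, ha⟩ : ∃ a : ℕ, ringKrullDim (S.presheaf.stalk (f (i z))) = a := by
    have h5 : ringKrullDim (S.presheaf.stalk (f (i z))) ≠ ⊤ := (ringKrullDim_lt_top).ne
    have h6 : ringKrullDim (S.presheaf.stalk (f (i z))) ≠ ⊥ := ringKrullDim_ne_bot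
    obtain ⟨b, hb⟩ := WithBot.ne_bot_iff_exists.mp h6
    rw [← hb] at h5 ⊢
    have h7 : b ≠ ⊤ := fun h => h5 (by rw [h]; rfl)
    obtain ⟨c, hc⟩ := ENat.ne_top_iff_exists.mp h7
    exact ⟨c, by rw [← hc]; rfl⟩
  have h7 : ringKrullDim (S.presheaf.stalk ((i ≫ f) z)) = a := ha
  rw [ha, h7] at h3
  have h8 : (a : WithBot ℕ∞) + (rs.length : WithBot ℕ∞) ≤
      (a : WithBot ℕ∞) + ringKrullDim (CInt.fiberStalk f (i z)) := by
    rw [← h3]
    gcongr
    exact le_add_of_nonneg_right h4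
  have h9 : (0 : WithBot ℕ∞) ≤ ringKrullDim (CInt.fiberStalk f (i z)) :=
    ringKrullDim_nonneg_of_nontrivial
  obtain ⟨b, hb⟩ : ∃ b : ℕ∞, ringKrullDim (CInt.fiberStalk f (i z)) = (b : WithBot ℕ∞) := by
    have h6 : ringKrullDim (CInt.fiberStalk f (i z)) ≠ ⊥ := ringKrullDim_ne_bot
    obtain ⟨b, hb⟩ := WithBot.ne_bot_iff_exists.mp h6
    exact ⟨b, hb.symm⟩
  rw [hb] at h8 ⊢
  have h10 : (a : ℕ∞) + (rs.length : ℕ∞) ≤ (a : ℕ∞) + b := by exact_mod_cast h8
  have h11 : (rs.length : ℕ∞) ≤ b := by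
    rwa [ENat.add_le_add_iff_left (ENat.natCast_ne_top a)] at h10
  exact_mod_cast h11

end K139.SmoothCodim
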